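import Cfsg.Agent.LargeExtra.Quotient

/-!
# Central products of subgroups with a common centre of order two
-/

set_option autoImplicit false

open Cfsg Subgroup
open scoped commutatorElement

namespace Cfsg.Agent.U62Three.K

universe u

variable {G : Type u} [Group G] {t : G} {A B : Subgroup G}

/-- An extraspecial 2-subgroup with centre `⟨t⟩`, possibly trivial above it. -/
structure Cover (t : G) (A : Subgroup G) : Prop where
  mem : t ∈ A
  sq : ∀ a ∈ A, a * a = 1 ∨ a * a = t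
  central : ∀ a ∈ A, Commute a t
  centre : ∀ a ∈ A, (∀ b ∈ A, Commute a b) → a = 1 ∨ a = t

theorem Cover.comm_cases (hA : Cover t A) (ht2 : t * t = 1) {a b : G} (ha : a ∈ A) (hb : b ∈ A) :
    ⁅a, b⁆ = 1 ∨ ⁅a, b⁆ = t := by
  have hab : a * b ∈ A := mul_mem ha hb
  -- the commutator is a product of three squares
  have key : ⁅a, b⁆ = (a * b) * (a * b) * ((b⁻¹) * (a * a)⁻¹ * b) * (b * b)⁻¹ := by
    rw [commutatorElement_def]; group
  have hti : t⁻¹ = t := inv_eq_of_mul_eq_one_right ht2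
  have hb' : b⁻¹ * t * b = t := by rw [mul_assoc, ← (hA.central b hb).eq, inv_mul_cancel_left]
  rw [key]
  rcases hA.sq _ ha with ea | ea <;> rcases hA.sq _ hb with eb | eb <;> rcases hA.sq _ hab with ec | ec <;>
    rw [ea, eb, ec] <;> simp [hti, ht2, hb']

/-- The join of two commuting covers. -/
theorem Cover.sup [Finite G] (ht1 : t ≠ 1) (ht2 : t * t = 1) (hA : Cover t A) (hB : Cover t B)
    (hc : ∀ a ∈ A, ∀ b ∈ B, Commute a b) :
    Cover t (A ⊔ B) ∧ 2 * Nat.card ↥(A ⊔ B : Subgroup G) = Nat.card A * Nat.card B ∧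
      (∀ x ∈ A ⊔ B, ∃ a ∈ A, ∃ b ∈ B, x = a * b) := by
  classical
  let S : Subgroup G :=
    { carrier := {x | ∃ a ∈ A, ∃ b ∈ B, x = a * b}
      one_mem' := ⟨1, one_mem _, 1, one_mem _, (one_mul 1).symm⟩
      mul_mem' := by
        rintro _ _ ⟨a, ha, b, hb, rfl⟩ ⟨a', ha', b', hb', rfl⟩
        exact ⟨a * a', mul_mem ha ha', b * b', mul_mem hb hb', ((hc a' ha' b hb).symm.mul_mul_mul_comm a b')⟩
      inv_mem' := by
        rintro _ ⟨a, ha, b, hb, rfl⟩
        exact ⟨a⁻¹, inv_mem ha, b⁻¹, inv_mem hb, by rw [(hc a ha b hb).eq, mul_inv_rev]⟩ }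
  have hS : A ⊔ B = S := le_antisymm
    (sup_le (fun a ha => ⟨a, ha, 1, one_mem _, (mul_one a).symm⟩)
      (fun b hb => ⟨1, one_mem _, b, hb, (one_mul b).symm⟩))
    (by rintro _ ⟨a, ha, b, hb, rfl⟩; exact mul_mem (le_sup_left (a := A) ha) (le_sup_right (b := B) hb))
  have hmeet : ∀ x ∈ A, x ∈ B → x = 1 ∨ x = t := fun x hx hx' =>
    hA.centre x hx fun a ha => (hc a ha x hx').symm
  refine ⟨⟨le_sup_left (a := A) hA.mem, ?_, ?_, ?_⟩, ?_, fun x hx => hS.le hx⟩
  · intro x hx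
    obtain ⟨a, ha, b, hb, rfl⟩ := hS.le hx
    rw [(hc a ha b hb).symm.mul_mul_mul_comm]
    rcases hA.sq a ha with ea | ea <;> rcases hB.sq b hb with eb | eb <;> rw [ea, eb] <;> simp [ht2]
  · intro x hx
    obtain ⟨a, ha, b, hb, rfl⟩ := hS.le hx
    exact (hA.central a ha).mul_left (hB.central b hb)
  · intro x hx hcom
    obtain ⟨a, ha, b, hb, rfl⟩ := hS.le hx
    have h1 : ∀ a' ∈ A, Commute a a' := fun a' ha' => by
      simpa using (hcom a' (le_sup_left (b := B) ha')).mul_left (hc a' ha' b hb).symm.inv_left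
    have h2 : ∀ b' ∈ B, Commute b b' := fun b' hb' => by
      simpa using ((hc a ha b' hb').inv_left).mul_left (hcom b' (le_sup_right (a := A) hb'))
    rcases hA.centre a ha h1 with rfl | rfl <;> rcases hB.centre b hb h2 with rfl | rfl <;> simp [ht2]
  · let φ : A × B →* G := MonoidHom.noncommCoprod A.subtype B.subtype fun a b => hc a.1 a.2 b.1 b.2
    have hrange : φ.range = A ⊔ B := by
      rw [hS]
      ext x
      constructor
      · rintro ⟨⟨a, b⟩, rfl⟩; exact ⟨a, a.2, b, b.2, rfl⟩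
      · rintro ⟨a, ha, b, hb, rfl⟩; exact ⟨(⟨a, ha⟩, ⟨b, hb⟩), rfl⟩
    let k : A × B := (⟨t, hA.mem⟩, ⟨t, hB.mem⟩)
    have hker : ∀ x : A × B, φ x = 1 ↔ x = 1 ∨ x = k := by
      rintro ⟨⟨a, ha⟩, ⟨b, hb⟩⟩
      constructor
      · intro h
        have hab : a * b = 1 := h
        have hb' : b = a⁻¹ := eq_inv_of_mul_eq_one_right hab
        rcases hmeet a ha (by rw [eq_inv_of_mul_eq_one_left hab]; exact inv_mem hb) with e | e
        · exact Or.inl (Prod.ext (Subtype.ext e) (Subtype.ext (by simpa [e] using hb')))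
        · refine Or.inr (Prod.ext (Subtype.ext e) (Subtype.ext ?_))
          show b = t
          rw [hb', e, inv_eq_of_mul_eq_one_right ht2]
      · rintro (h | h) <;> rw [h]
        · exact map_one φ
        · exact ht2
    have hk1 : k ≠ 1 := fun h => ht1 (congrArg (fun x : A × B => (x.1 : G)) h)
    have h2 : Nat.card φ.ker = 2 := by
      rw [Nat.card_eq_two_iff]
      refine ⟨⟨1, one_mem _⟩, ⟨k, MonoidHom.mem_ker.2 ((hker k).2 (Or.inr rfl))⟩,
        fun h => hk1 (congrArg Subtype.val h).symm, Set.eq_univ_of_forall fun x => ?_⟩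
      rcases (hker x.1).1 (MonoidHom.mem_ker.1 x.2) with e | e
      · exact Or.inl (Subtype.ext e)
      · exact Or.inr (Subtype.ext e)
    have hq := φ.ker.card_eq_card_quotient_mul_card_subgroup
    rw [Nat.card_congr (QuotientGroup.quotientKerEquivRange φ).toEquiv, hrange, h2, Nat.card_prod] at hq
    omega

/-- In a cover normalised by `x`, what `x` centralises commutes with the commutators of `x`. -/
theorem Cover.commute_moved (hA : Cover t A) (ht2 : t * t = 1) {x a e : G} (hx : ∀ b ∈ A, x * b * x⁻¹ ∈ A)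
    (hxt : Commute x t) (ha : a ∈ A) (hxa : Commute x a) (he : e ∈ A) :
    Commute a (e * (x * e * x⁻¹)⁻¹) := by
  set e' := x * e * x⁻¹ with he'
  have hcases := hA.comm_cases ht2 ha he
  have hconj : ⁅a, e'⁆ = ⁅a, e⁆ := by
    have h1 : ⁅a, e'⁆ = x * ⁅a, e⁆ * x⁻¹ := by
      conv_lhs => rw [← show x * a * x⁻¹ = a by rw [hxa.eq, mul_inv_cancel_right]]
      rw [he', commutatorElement_def, commutatorElement_def]; group
    rw [h1]
    rcases hcases with h | h <;> rw [h]
    · simp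
    · rw [hxt.eq, mul_inv_cancel_right]
  have hcc : Commute a ⁅a, e⁆ := by
    rcases hcases with h | h <;> rw [h]
    · exact Commute.one_right a
    · exact hA.central a ha
  have hA' : ∀ b ∈ A, Commute b ⁅a, e⁆ := fun b hb => by
    rcases hcases with h | h <;> rw [h]
    · exact Commute.one_right b
    · exact hA.central b hb
  have h1 : a * e * a⁻¹ = ⁅a, e⁆ * e := by rw [commutatorElement_def]; group
  have h2 : a * e' * a⁻¹ = ⁅a, e⁆ * e' := by rw [← hconj, commutatorElement_def]; group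
  refine mul_inv_eq_iff_eq_mul.1 ?_
  calc a * (e * e'⁻¹) * a⁻¹ = a * e * a⁻¹ * (a * e' * a⁻¹)⁻¹ := by group
    _ = ⁅a, e⁆ * e * (⁅a, e⁆ * e')⁻¹ := by rw [h1, h2]
    _ = e * e'⁻¹ := by
      have h3 := (hA' _ (mul_mem he (inv_mem (hx e he)))).eq
      rw [← he'] at h3
      rw [mul_inv_rev, ← mul_assoc, mul_assoc ⁅a, e⁆ e, ← h3, mul_inv_cancel_right]

/-- Four commuting covers of order eight give an extraspecial group of order 512. -/
theorem four [Finite G] (ht1 : t ≠ 1) (ht2 : t * t = 1) (q : Fin 4 → Subgroup G)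
    (hq : ∀ i, Cover t (q i)) (hcard : ∀ i, Nat.card (q i) = 8)
    (hne : ∃ i, ∃ a ∈ q i, ∃ b ∈ q i, a * b ≠ b * a)
    (hc : ∀ i k, i ≠ k → ∀ a ∈ q i, ∀ b ∈ q k, Commute a b) :
    Cover t (⨆ i, q i) ∧ Nat.card ↥(⨆ i, q i : Subgroup G) = 2 ^ 9 ∧
      IsExtraspecial 2 ↥(⨆ i, q i : Subgroup G) := by
  obtain ⟨h01, c01, m01⟩ := (hq 0).sup ht1 ht2 (hq 1) (hc 0 1 (by decide))
  obtain ⟨h012, c012, m012⟩ := h01.sup ht1 ht2 (hq 2) fun x hx b hb => by
    obtain ⟨a, ha, c, hc', rfl⟩ := m01 x hx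
    exact (hc 0 2 (by decide) a ha b hb).mul_left (hc 1 2 (by decide) c hc' b hb)
  obtain ⟨hK, cK, -⟩ := h012.sup ht1 ht2 (hq 3) fun x hx b hb => by
    obtain ⟨y, hy, d, hd, rfl⟩ := m012 x hx
    obtain ⟨a, ha, c, hc', rfl⟩ := m01 y hy
    exact ((hc 0 3 (by decide) a ha b hb).mul_left (hc 1 3 (by decide) c hc' b hb)).mul_left
      (hc 2 3 (by decide) d hd b hb)
  have hsup : (⨆ i, q i : Subgroup G) = q 0 ⊔ q 1 ⊔ q 2 ⊔ q 3 := by
    refine le_antisymm (iSup_le fun i => ?_) ?_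
    · fin_cases i
      exacts [le_sup_of_le_left (le_sup_of_le_left le_sup_left), le_sup_of_le_left (le_sup_of_le_left le_sup_right),
        le_sup_of_le_left le_sup_right, le_sup_right]
    · exact sup_le (sup_le (sup_le (le_iSup q 0) (le_iSup q 1)) (le_iSup q 2)) (le_iSup q 3)
  simp only [hcard] at c01 c012 cK
  have hc512 : Nat.card ↥(⨆ i, q i : Subgroup G) = 2 ^ 9 := by
    rw [hsup]; norm_num; omega
  rw [← hsup] at hK
  refine ⟨hK, hc512, ?_⟩
  refine LargeExtra.extraspecial_of (w := ⟨t, hK.mem⟩) (IsPGroup.of_card hc512)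
    (fun e => ht1 (congrArg Subtype.val e)) (Subtype.ext ht2) ?_ ?_ ?_ ?_ ?_
  · exact mem_center_iff.2 fun x => Subtype.ext (hK.central x x.2).eq
  · intro c hc'
    rcases hK.centre c c.2 (fun b hb => (congrArg Subtype.val (mem_center_iff.1 hc' ⟨b, hb⟩)).symm) with e | e
    · exact Or.inl (Subtype.ext e)
    · exact Or.inr (Subtype.ext e)
  · intro a b
    rcases hK.comm_cases ht2 a.2 b.2 with e | e
    · exact Or.inl (Subtype.ext e)
    · exact Or.inr (Subtype.ext e)
  · intro a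
    rcases hK.sq a a.2 with e | e
    · exact Or.inl (Subtype.ext e)
    · exact Or.inr (Subtype.ext e)
  · obtain ⟨i, a, ha, b, hb, hab⟩ := hne
    exact ⟨⟨a, le_iSup q i ha⟩, ⟨b, le_iSup q i hb⟩, fun e => hab (congrArg Subtype.val e)⟩

end Cfsg.Agent.U62Three.K
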