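import Cfsg.Agent.U62Three.K.Hyp

/-!
# The subgroup of order 512 and the frame points
-/

set_option autoImplicit false
set_option linter.unusedSectionVars false

open Subgroup Cfsg

namespace Cfsg.Agent.U62Three.K

universe u

variable {G : Type u} [Group G] {z : G} {Φ : Frame z} {t : G} {R B P : Fin 4 → Subgroup G}

theorem frame_commute {x y : G} (hx : x ∈ Φ.J) (hy : y ∈ Φ.J) : Commute x y := by
  rw [Φ.span] at hx hy
  have h1 : ∀ a b, ∀ w ∈ closure (Set.range fun x : Fin 6 × Fin 6 => Φ.j x.1 x.2), Commute (Φ.j a b) w := by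
    intro a b w hw
    induction hw using closure_induction with
    | mem w hw => obtain ⟨⟨c, d⟩, rfl⟩ := hw; exact Φ.comm a b c d
    | one => exact Commute.one_right _
    | mul p q _ _ hp hq => exact hp.mul_right hq
    | inv p _ hp => exact hp.inv_right
  induction hx using closure_induction with
  | mem w hw => obtain ⟨⟨a, b⟩, rfl⟩ := hw; exact h1 a b y hy
  | one => exact Commute.one_left _
  | mul p q _ _ hp hq => exact hp.mul_left hq
  | inv p _ hp => exact hp.inv_left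

theorem j_mem (Φ : Frame z) (a b : Fin 6) : Φ.j a b ∈ Φ.J :=
  Φ.span ▸ subset_closure ⟨(a, b), rfl⟩

theorem J_cube {x : G} (hx : x ∈ Φ.J) : x * x * x = 1 := by
  have hx' := hx
  rw [Φ.span] at hx'
  induction hx' using closure_induction with
  | mem w hw => obtain ⟨⟨a, b⟩, rfl⟩ := hw; exact Φ.cube a b
  | one => simp
  | mul p q hp hq h1 h2 =>
    have hp' : p ∈ Φ.J := Φ.span ▸ hp
    have hq' : q ∈ Φ.J := Φ.span ▸ hq
    have hc := frame_commute hp' hq'
    rw [hc.symm.mul_mul_mul_comm, (hc.symm.mul_left hc.symm).mul_mul_mul_comm, h1 hp', h2 hq', one_mul]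
  | inv p hp h1 =>
    rw [← mul_inv_rev, ← mul_inv_rev, ← mul_assoc, h1 (Φ.span ▸ hp), inv_one]

theorem jt_three (Φ : Frame z) (t : G) : IsPGroup 3 ↥(jt Φ t) :=
  (IsPGroup.of_card (p := 3) (n := 4) (by rw [Φ.card]; rfl)).to_le inf_le_left

theorem j_self (Φ : Frame z) (a : Fin 6) : Φ.j a a = 1 :=
  mul_left_cancel (a := Φ.j a a) (by rw [Φ.cocycle, mul_one])

theorem j_symm (Φ : Frame z) (a b : Fin 6) : (Φ.j a b)⁻¹ = Φ.j b a :=
  inv_eq_of_mul_eq_one_right (by rw [Φ.cocycle, j_self])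

theorem j_sq (Φ : Frame z) (a b : Fin 6) : Φ.j a b * Φ.j a b = Φ.j b a := by
  rw [← j_symm Φ a b, eq_inv_iff_mul_eq_one]
  exact Φ.cube a b

theorem castLE_ne (i : Fin 4) : (i.castLE (by omega) : Fin 6) ≠ 4 ∧ (i.castLE (by omega) : Fin 6) ≠ 5 := by
  fin_cases i <;> decide

theorem pt_mem (Φ : Frame z) (i : Fin 4) : pt Φ i ∈ Φ.J := mul_mem (j_mem Φ _ _) (j_mem Φ _ _)

theorem root_mem (Φ : Frame z) (k l : Fin 4) : root Φ k l ∈ Φ.J := j_mem Φ _ _

/-- A product of two points is the root joining them. -/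
theorem root_eq (Φ : Frame z) (i k : Fin 4) : root Φ i k = pt Φ i * (pt Φ k)⁻¹ := by
  rw [pt, pt, mul_inv_rev, mul_assoc, mul_inv_cancel_left, j_symm, Φ.cocycle]
  rfl

/-- Different places give different roots. -/
theorem j_ne (Φ : Frame z) {a b : Fin 6} (hab : a ≠ b) : Φ.j a b ≠ 1 := by
  intro e
  have all : ∀ c d, Φ.j c d = 1 := by
    intro c d
    rcases eq_or_ne c d with rfl | hcd
    · exact j_self Φ c
    obtain ⟨n, -, hn⟩ := Φ.perm ((Equiv.swap (Equiv.swap a c b) d) * Equiv.swap a c)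
    have h1 := hn a b
    have hne : c ≠ Equiv.swap a c b := fun e' =>
      hab ((Equiv.swap a c).injective (by rw [Equiv.swap_apply_left]; exact e'))
    rw [e, mul_one, mul_inv_cancel, Equiv.Perm.mul_apply, Equiv.Perm.mul_apply, Equiv.swap_apply_left,
      Equiv.swap_apply_left, Equiv.swap_apply_of_ne_of_ne hne hcd] at h1
    exact h1.symm
  have hbot : Φ.J = ⊥ := by
    rw [Φ.span, closure_eq_bot_iff]
    rintro _ ⟨x, rfl⟩
    exact all x.1 x.2
  exact absurd (Subgroup.card_eq_one.2 hbot) (by rw [Φ.card]; decide)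

/-- The constant vector vanishes. -/
theorem j_sum (Φ : Frame z) : Φ.j 0 4 * Φ.j 1 4 * Φ.j 2 4 * Φ.j 3 4 * Φ.j 5 4 = 1 := by
  classical
  let _ : CommGroup ↥Φ.J :=
    { (inferInstance : Group ↥Φ.J) with mul_comm := fun a b => Subtype.ext (frame_commute a.2 b.2).eq }
  let e : Fin 6 → Fin 6 → ↥Φ.J := fun a b => ⟨Φ.j a b, j_mem Φ a b⟩
  let e5 : Fin 5 → ↥Φ.J := fun a => e a.castSucc 5
  have hfin : Finite ↥Φ.J := Nat.finite_of_card_ne_zero (by rw [Φ.card]; decide)
  let φ : (Fin 5 → Fin 3) → ↥Φ.J := fun c => ∏ a, e5 a ^ (c a).val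
  have hni : ¬ Function.Injective φ := fun hi => by
    have h1 := Nat.card_le_card_of_injective φ hi
    rw [Φ.card, Nat.card_fun, Nat.card_fin, Nat.card_fin] at h1
    norm_num at h1
  simp only [Function.Injective, not_forall] at hni
  obtain ⟨c, d, hcd, hne⟩ := hni
  let m : Fin 5 → ℤ := fun a => ((c a).val : ℤ) - (d a).val
  have hm : ∏ a, e5 a ^ m a = 1 := by
    have h2 : ∏ a, e5 a ^ m a = φ c * (φ d)⁻¹ := by
      simp only [φ, m, zpow_sub, zpow_natCast, Finset.prod_mul_distrib, Finset.prod_inv_distrib]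
    rw [h2, hcd, mul_inv_cancel]
  -- the exponents agree modulo three
  have hmod : ∀ a, (m a - m 0) % 3 = 0 := by
    intro a
    by_contra hna
    have ha0 : a ≠ 0 := fun e' => hna (by rw [e', sub_self]; rfl)
    obtain ⟨n, hn, hnj⟩ := Φ.perm (Equiv.swap (Fin.castSucc 0) a.castSucc)
    let ν : ↥Φ.J →* ↥Φ.J :=
      { toFun := fun y => ⟨n * y.1 * n⁻¹, (mem_normalizer_iff.1 hn y.1).1 y.2⟩
        map_one' := Subtype.ext (by simp)
        map_mul' := fun y w => Subtype.ext (conj_mul).symm }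
    have hν : ∀ b : Fin 5, ν (e5 b) = e5 (Equiv.swap 0 a b) := fun b => Subtype.ext (by
      show n * Φ.j b.castSucc 5 * n⁻¹ = Φ.j (Equiv.swap 0 a b).castSucc 5
      rw [hnj, ← (Fin.castSucc_injective 5).swap_apply, Equiv.swap_apply_of_ne_of_ne (x := (5 : Fin 6))
        (by decide) (fun e' => absurd e'.symm (Fin.castSucc_lt_last a).ne)])
    have h3 : ∏ b, e5 b ^ m (Equiv.swap 0 a b) = 1 := by
      have h4 := congrArg ν hm
      rw [map_prod, map_one] at h4
      simp only [map_zpow, hν] at h4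
      rw [← Equiv.prod_comp (Equiv.swap 0 a)] at h4
      simpa only [Equiv.swap_apply_self] using h4
    have h5 : ∏ b, e5 b ^ (m (Equiv.swap 0 a b) - m b) = 1 := by
      simp only [zpow_sub, Finset.prod_mul_distrib, Finset.prod_inv_distrib, h3, hm, inv_one, mul_one]
    rw [Fintype.prod_eq_mul (0 : Fin 5) a ha0.symm (fun b hb => by
      rw [Equiv.swap_apply_of_ne_of_ne hb.1 hb.2, sub_self, zpow_zero]),
      Equiv.swap_apply_left, Equiv.swap_apply_right,
      show m 0 - m a = -(m a - m 0) by ring, zpow_neg] at h5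
    have h6 : (Φ.j 0 a.castSucc) ^ (m a - m 0) = 1 := by
      have h7 : e 0 a.castSucc = e5 0 * (e5 a)⁻¹ := Subtype.ext (by
        show Φ.j 0 a.castSucc = Φ.j 0 5 * (Φ.j a.castSucc 5)⁻¹
        rw [j_symm, Φ.cocycle])
      have h8 : e 0 a.castSucc ^ (m a - m 0) = 1 := by rw [h7, mul_zpow, inv_zpow]; exact h5
      exact congrArg Subtype.val h8
    refine j_ne Φ (a := 0) (b := a.castSucc) (fun e' => ha0 (Fin.castSucc_injective 5 e'.symm)) ?_
    rw [← orderOf_eq_one_iff]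
    have h9 := orderOf_dvd_iff_zpow_eq_one.2 h6
    have h10 : orderOf (Φ.j 0 a.castSucc) ∣ 3 :=
      orderOf_dvd_of_pow_eq_one (by rw [pow_succ, pow_two, Φ.cube])
    rcases (Nat.dvd_prime Nat.prime_three).1 h10 with e' | e'
    · exact e'
    · rw [e'] at h9; omega
  have hcube : ∀ y : ↥Φ.J, ∀ s : ℤ, y ^ s = y ^ (s % 3) := fun y s => by
    conv_lhs => rw [← Int.emod_add_mul_ediv s 3]
    rw [zpow_add, zpow_mul, show y ^ (3 : ℤ) = 1 from by
      rw [zpow_ofNat, pow_succ, pow_two]; exact Subtype.ext (J_cube y.2), one_zpow, mul_one]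
  have hm0 : m 0 % 3 ≠ 0 := by
    obtain ⟨a, ha⟩ := Function.ne_iff.1 hne
    have := hmod a
    have hca := (c a).isLt
    have hda := (d a).isLt
    have hv : (c a).val ≠ (d a).val := fun e' => ha (Fin.ext e')
    simp only [m] at this ⊢
    omega
  have hprod : (∏ a, e5 a) = 1 := by
    have h1 : (∏ a, e5 a) ^ m 0 = 1 := by
      rw [← Finset.prod_zpow, ← hm]
      exact Finset.prod_congr rfl fun a _ => by
        have := hmod a
        rw [hcube _ (m a), hcube _ (m 0), show m a % 3 = m 0 % 3 by omega]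
    rw [← orderOf_eq_one_iff]
    have h9 := orderOf_dvd_iff_zpow_eq_one.2 h1
    have h10 : orderOf (∏ a, e5 a) ∣ 3 :=
      orderOf_dvd_of_pow_eq_one (Subtype.ext (by
        show ((∏ a, e5 a : ↥Φ.J) : G) ^ 3 = 1
        rw [pow_succ, pow_two, J_cube (∏ a, e5 a).2]))
    rcases (Nat.dvd_prime Nat.prime_three).1 h10 with e' | e'
    · exact e'
    · rw [e'] at h9; omega
  have h5 : Φ.j 0 5 * Φ.j 1 5 * Φ.j 2 5 * Φ.j 3 5 * Φ.j 4 5 = 1 := by
    rw [Fin.prod_univ_five] at hprod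
    exact congrArg Subtype.val hprod
  obtain ⟨n, -, hn⟩ := Φ.perm (Equiv.swap 4 5)
  have h6 := congrArg (fun y => n * y * n⁻¹) h5
  simp only [← conj_mul, hn, mul_one, mul_inv_cancel] at h6
  exact h6

/-- The four points multiply to one. -/
theorem pt_sum (Φ : Frame z) : pt Φ 0 * pt Φ 1 * pt Φ 2 * pt Φ 3 = 1 := by
  let _ : CommGroup ↥Φ.J :=
    { (inferInstance : Group ↥Φ.J) with mul_comm := fun a b => Subtype.ext (frame_commute a.2 b.2).eq }
  let e : Fin 6 → ↥Φ.J := fun a => ⟨Φ.j a 4, j_mem Φ a 4⟩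
  have h1 : e 0 * e 5 * (e 1 * e 5) * (e 2 * e 5) * (e 3 * e 5) =
      e 0 * e 1 * e 2 * e 3 * e 5 * (e 5 * e 5 * e 5) := by ac_rfl
  have h2 := congrArg Subtype.val h1
  simp only [Subgroup.coe_mul, e] at h2
  rw [Φ.cube, mul_one, j_sum] at h2
  exact h2

variable (h : Loc Φ t R B P)

include h

theorem Loc.t_root (k l : Fin 4) : t * root Φ k l * t⁻¹ = root Φ k l := by
  rw [root, h.tact, Equiv.swap_apply_of_ne_of_ne (castLE_ne k).1 (castLE_ne k).2,
    Equiv.swap_apply_of_ne_of_ne (castLE_ne l).1 (castLE_ne l).2]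

theorem Loc.t_pt (i : Fin 4) : t * pt Φ i * t⁻¹ = pt Φ i := by
  rw [pt, ← conj_mul, h.tact, h.tact, Equiv.swap_apply_of_ne_of_ne (castLE_ne i).1 (castLE_ne i).2,
    Equiv.swap_apply_left, Equiv.swap_apply_right]
  rw [← Φ.cocycle (i.castLE _) 4 5, mul_assoc, j_sq]

theorem Loc.pt_jt (i : Fin 4) : pt Φ i ∈ jt Φ t :=
  ⟨pt_mem Φ i, mem_centralizer_singleton_iff.2 (mul_inv_eq_iff_eq_mul.1 (h.t_pt i)).symm⟩

theorem Loc.root_jt (k l : Fin 4) : root Φ k l ∈ jt Φ t :=
  ⟨root_mem Φ k l, mem_centralizer_singleton_iff.2 (mul_inv_eq_iff_eq_mul.1 (h.t_root k l)).symm⟩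

theorem Loc.jt_le (i : Fin 4) : jt Φ t ≤ ct t ⊓ centralizer ({pt Φ i} : Set G) :=
  fun _ hx => ⟨hx.2, mem_centralizer_singleton_iff.2 (frame_commute hx.1 (pt_mem Φ i)).eq⟩

theorem Loc.R_jt (i : Fin 4) : jt Φ t ≤ normalizer (R i : Set G) := (h.jt_le i).trans (h.norm i)

/-- Two quaternion subgroups commute. -/
theorem Loc.comm [Finite G] {i k : Fin 4} (hik : i ≠ k) : ∀ a ∈ R i, ∀ b ∈ R k, Commute a b := by
  classical
  obtain ⟨E, hE, hiE, hkE, hnE⟩ := h.root_cover i k hik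
  intro a ha
  set x := pt Φ i
  have hx : x ∈ jt Φ t := h.pt_jt i
  have hxe : ∀ e ∈ E, x * e * x⁻¹ ∈ E := fun e he => (mem_normalizer_iff.1 (hnE hx) e).1 he
  have hxR : ∀ e ∈ R k, x * e * x⁻¹ ∈ R k := fun e he =>
    (mem_normalizer_iff.1 (h.R_jt k hx) e).1 he
  have hxt : Commute x t := mem_centralizer_singleton_iff.1 hx.2
  have hxa : Commute x a := (mem_centralizer_singleton_iff.1 (h.le i ha).2).symm
  have hat : Commute a t := (h.cover i).central a ha
  have hmoved : ∀ e ∈ R k, Commute a (e * (x * e * x⁻¹)⁻¹) := fun e he =>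
    hE.commute_moved h.t2 hxe hxt (hiE ha) hxa (hkE he)
  have hx3 : x * x * x = 1 := J_cube hx.1
  let μ : ↥(R k) → ↥(R k) := fun e => ⟨e.1 * (x * e.1 * x⁻¹)⁻¹, mul_mem e.2 (inv_mem (hxR _ e.2))⟩
  let T : ↥(R k) := ⟨t, (h.cover k).mem⟩
  have hT : ∀ r : ↥(R k), Commute r T := fun r => Subtype.ext ((h.cover k).central r r.2).eq
  have hTT : T * T = 1 := Subtype.ext h.t2
  have hz : ∀ r : ↥(R k), r ∈ zpowers T ↔ r = 1 ∨ r = T := fun r => by
    constructor
    · rintro ⟨m, rfl⟩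
      rcases Int.even_or_odd m with ⟨n, rfl⟩ | ⟨n, rfl⟩
      · left; show T ^ (n + n) = 1; rw [← two_mul, zpow_mul, zpow_two, hTT, one_zpow]
      · right; show T ^ (2 * n + 1) = T; rw [zpow_add_one, zpow_mul, zpow_two, hTT, one_zpow, one_mul]
    · rintro (rfl | rfl)
      exacts [one_mem _, mem_zpowers _]
  -- a displacement class determines the class
  have hinj : ∀ e e' : ↥(R k), (μ e)⁻¹ * μ e' ∈ zpowers T → e⁻¹ * e' ∈ zpowers T := by
    intro e e' he
    set w : G := e.1⁻¹ * e'.1 with hw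
    have hwm : w ∈ R k := mul_mem (inv_mem e.2) e'.2
    obtain ⟨c, hc, hce⟩ : ∃ c : G, (c = 1 ∨ c = t) ∧ x * w * x⁻¹ = w * c := by
      rcases (hz _).1 he with h1 | h1
      · have h2 : (μ e).1 = (μ e').1 := congrArg Subtype.val (inv_mul_eq_one.1 h1)
        refine ⟨1, Or.inl rfl, ?_⟩
        calc x * w * x⁻¹ = e.1⁻¹ * (μ e).1 * (μ e').1⁻¹ * e'.1 := by simp only [hw, μ]; group
          _ = w * 1 := by rw [h2, hw]; group
      · have h2 : (μ e').1 = (μ e).1 * t := congrArg Subtype.val (inv_mul_eq_iff_eq_mul.1 h1)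
        refine ⟨t, Or.inr rfl, ?_⟩
        calc x * w * x⁻¹ = e.1⁻¹ * (μ e).1 * (μ e').1⁻¹ * e'.1 := by simp only [hw, μ]; group
          _ = e.1⁻¹ * t⁻¹ * e'.1 := by
            rw [h2, mul_inv_rev, mul_assoc e.1⁻¹ (μ e).1, ← mul_assoc (μ e).1,
              ((h.cover k).central _ (μ e).2).inv_right.eq]
            group
          _ = w * t := by
            rw [inv_eq_of_mul_eq_one_right h.t2, mul_assoc, ((h.cover k).central _ e'.2).eq.symm, hw,
              mul_assoc]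
    rcases hc with hc | hc <;> subst c
    · rw [mul_one] at hce
      rcases h.free k i (Ne.symm hik) w hwm (mul_inv_eq_iff_eq_mul.1 hce) with e1 | e1
      · exact (hz _).2 (Or.inl (Subtype.ext e1))
      · exact (hz _).2 (Or.inr (Subtype.ext e1))
    · exfalso
      have hwt : x * (w * t) * x⁻¹ = w := by
        rw [← conj_mul, hce, hxt.eq, mul_inv_cancel_right, mul_assoc, h.t2, mul_one]
      have h3 : x * x * x * w * (x * x * x)⁻¹ = w * t := by
        calc x * x * x * w * (x * x * x)⁻¹ = x * (x * (x * w * x⁻¹) * x⁻¹) * x⁻¹ := by group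
          _ = w * t := by rw [hce, hwt, hce]
      rw [hx3, one_mul, inv_one, mul_one] at h3
      exact h.ot (mul_eq_left.1 h3.symm)
  intro b hb
  let Z := zpowers T
  let ν : ↥(R k) ⧸ Z → ↥(R k) ⧸ Z := fun c => QuotientGroup.mk (μ c.out)
  have hν : Function.Injective ν := fun c c' hcc => by
    have h1 := hinj _ _ (QuotientGroup.eq.1 hcc)
    rw [← QuotientGroup.out_eq' c, ← QuotientGroup.out_eq' c']
    exact QuotientGroup.eq.2 h1
  obtain ⟨c, hc⟩ := Finite.surjective_of_injective hν (QuotientGroup.mk ⟨b, hb⟩)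
  have hd := hmoved c.out.1 c.out.2
  rcases (hz _).1 (QuotientGroup.eq.1 hc) with h1 | h1
  · rw [inv_mul_eq_one] at h1
    have : b = (μ c.out).1 := congrArg Subtype.val h1.symm
    rw [this]; exact hd
  · rw [inv_mul_eq_iff_eq_mul] at h1
    have : b = (μ c.out).1 * t := congrArg Subtype.val h1
    rw [this]; exact hd.mul_right hat

end Cfsg.Agent.U62Three.K
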