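import Cfsg.Agent.U62Three.K.Co.Model

/-!
# Coordinates on the prepared centraliser

`code` is defined on the whole group; on `L` it is the action on `K` modulo `⟨t⟩`, on the subgroup `core` it is
semilinear and every generator of the special unitary group is attained there.
-/

set_option autoImplicit false
set_option linter.unusedSectionVars false
set_option maxRecDepth 100000

open Subgroup
open scoped commutatorElement

namespace Cfsg.Agent.U62Three.K

open U62Rec K.Code Co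

local notation "⊚" => U62Rec.cmp

universe u

variable {G : Type u} [Group G] [Finite G] {z : G} {Q : Subgroup G} {D : Facts z Q} {K Z3 L : Subgroup G}

/-- The subgroup generated by `K`, the normaliser of the frame and the centralisers of the points. -/
def core (D : Facts z Q) (K : Subgroup G) : Subgroup G :=
  K ⊔ (normalizer (D.F.J : Set G) ⊓ centralizer ({D.t 0} : Set G)) ⊔
    ⨆ k, centralizer ({D.pt k} : Set G) ⊓ centralizer ({D.t 0} : Set G)

/-- Coordinates. -/
structure Coord (D : Facts z Q) (K L : Subgroup G) where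
  /-- The vectors. -/
  vec : ℕ → G
  /-- The maps induced on the vectors. -/
  code : G → ℕ
  vec_mem : ∀ a < 256, vec a ∈ K
  vec_xor : ∀ a < 256, ∀ b < 256, (vec (a ^^^ b))⁻¹ * (vec a * vec b) ∈ zpowers (D.t 0)
  vec_ker : ∀ a < 256, vec a ∈ zpowers (D.t 0) → a = 0
  vec_surj : ∀ x ∈ K, ∃ a < 256, (vec a)⁻¹ * x ∈ zpowers (D.t 0)
  vec_sq : ∀ a < 256, vec a * vec a = if qv 255 a then D.t 0 else 1
  isCode : ∀ l, IsCode (code l)
  code_mul : ∀ l ∈ L, ∀ m ∈ L, code (l * m) = ⊚ (code l) (code m)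
  conj : ∀ l ∈ L, ∀ a < 256, (vec (app (code l) a))⁻¹ * (l * vec a * l⁻¹) ∈ zpowers (D.t 0)
  iso : ∀ l ∈ L, Iso (code l)
  ker : ∀ l ∈ L, code l = idm ↔ l ∈ K
  K_le : K ≤ L
  core_le : core D K ≤ L
  good : ∀ l ∈ core D K, Good (code l)
  att : ∀ g ∈ gensS, ∃ l ∈ core D K, code l = g
  code_pt : ∀ k, code (D.pt k) = gPt k
  /-- A centraliser of a point commutes with the scalar. -/
  lin_centPt : ∀ k, ∀ l ∈ centralizer ({D.pt k} : Set G) ⊓ centralizer ({D.t 0} : Set G), IsLin (code l)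
  /-- In the wide case the scalar is attained by the scalar group. -/
  scalar : ∀ W : Wide D.F, W.e 0 * W.e 1 ∈ L ∧
    (code (W.e 0 * W.e 1) = gOm ∨ code (W.e 0 * W.e 1) = ⊚ gOm gOm)
  /-- In the wide case all of `L` is semilinear. -/
  good_wide : 3 ^ 7 ∣ Nat.card ↥(centralizer ({z} : Set G)) → ∀ l ∈ L, Good (code l)

namespace Co

variable (P : Prep D K Z3 L) (H : Hyp z Q)

include P

theorem K_le_L : K ≤ L := fun x hx => by
  rw [P.hL]
  exact ⟨⟨P.le hx, le_normalizer hx⟩, le_normalizer (mem_sup_left hx)⟩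

theorem core_le : core D K ≤ L := sup_le (sup_le (K_le_L P) P.normJ) (iSup_le P.centPt)

theorem cw_t_mul (H : Hyp z Q) {a c : G} (ha : a ∈ K) (hc : c ∈ K) (h : a⁻¹ * c ∈ zpowers (D.t 0)) :
    cw D a = cw D c := by
  have hz : cw D (a⁻¹ * c) = 0 := by
    obtain ⟨n, hn⟩ := mem_zpowers_iff.1 h
    have e2 : D.t 0 ^ (2 : ℤ) = 1 := by rw [zpow_two, t_sq D 0]
    rw [← hn]
    rcases Int.even_or_odd' n with ⟨m, rfl | rfl⟩
    · rw [zpow_mul, e2, one_zpow]; exact (bas P H).co_one
    · rw [zpow_add, zpow_mul, e2, one_zpow, one_mul, zpow_one]; exact (bas P H).co_t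
  have hm : cw D (a⁻¹ * c) = cw D a⁻¹ ^^^ cw D c := (bas P H).co_mul (inv_mem ha) hc
  rw [hz, show cw D a⁻¹ = cw D a from (bas P H).co_inv ha] at hm
  exact Nat.xor_eq_zero_iff.1 hm.symm

theorem qv_unit (k : Fin 8) : qv 255 (2 ^ (k : ℕ)) = true := by
  revert k; decide +kernel

theorem code_iso (H : Hyp z Q) {l : G} (hl : l ∈ L) : Iso (code D l) := by
  intro v hv
  obtain ⟨a, ha, hva⟩ := (bas P H).co_surj v hv
  subst hva
  rw [← act P H hl ha]
  have h1 := (bas P H).sq_all (qv_unit P) (L_norm P hl ha)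
  have h2 := (bas P H).sq_all (qv_unit P) ha
  rw [conj_mul, h2] at h1
  cases e1 : qv 255 (cw D (l * a * l⁻¹)) <;> cases e2 : qv 255 (cw D a) <;>
    simp only [e1, e2, if_true, if_false, Bool.false_eq_true] at h1
  · rfl
  · rw [(L_comm P hl).eq, mul_inv_cancel_right] at h1
    exact absurd h1 (t_ne D 0)
  · rw [mul_one, mul_inv_cancel] at h1
    exact absurd h1.symm (t_ne D 0)
  · rfl

theorem code_conj (H : Hyp z Q) {g x y : G} (hg : g ∈ L) (hx : x ∈ L) (hy : g * x * g⁻¹ = y) :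
    ⊚ (code D g) (code D x) = ⊚ (code D y) (code D g) := by
  rw [← code_mul P H hg hx, ← code_mul P H (hy ▸ mul_mem (mul_mem hg hx) (inv_mem hg)) hg, ← hy,
    inv_mul_cancel_right]

theorem code_commute (H : Hyp z Q) {g x : G} (hg : g ∈ L) (hx : x ∈ L) (h : Commute g x) :
    ⊚ (code D g) (code D x) = ⊚ (code D x) (code D g) :=
  code_conj P H hg hx (by rw [h.eq, mul_inv_cancel_right])

/-- The normaliser of the frame is semilinear. -/
theorem nt_good (H : Hyp z Q) {n : G} (hn : n ∈ nt D) : Good (code D n) := by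
  have hnL := nt_le P hn
  refine ⟨isCode_cd _ _, ?_, code_iso P H hnL⟩
  have h : ∀ i, ∃ m e, ⊚ (code D n) (gPt i) = ⊚ (ptE m e) (code D n) := by
    intro i
    obtain ⟨m, hm | hm⟩ := nt_perm D hn i
    · exact ⟨m, false, by rw [← code_pt P H i, code_conj P H hnL (pt_mem_L P i) hm, code_pt P H m]; rfl⟩
    · refine ⟨m, true, ?_⟩
      have hinv : (D.pt m)⁻¹ = D.pt m * D.pt m := inv_eq_of_mul_eq_one_right (by
        rw [← mul_assoc, pt_cube])
      rw [← code_pt P H i, code_conj P H hnL (pt_mem_L P i) hm, hinv,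
        code_mul P H (pt_mem_L P m) (pt_mem_L P m), code_pt P H m]
      rfl
  choose m e h using h
  rcases semilinear_of_points (code_inv P H hnL).1 m e h with ⟨-, hl⟩ | ⟨-, hl⟩
  · exact Or.inl hl
  · exact Or.inr hl

/-- The elements moving `z` to the points are linear. -/
theorem mv_lin (H : Hyp z Q) (k : Fin 4) : IsLin (code D (mv D k)) := by
  have hk := mv_L P k
  have h : ∀ i, ⊚ (code D (mv D k)) (gPt i) = ⊚ (ptE (Equiv.swap 0 k i) false) (code D (mv D k)) := fun i => by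
    rw [← code_pt P H i, code_conj P H hk (pt_mem_L P i) (mv_pt D k i), code_pt P H]; rfl
  rcases semilinear_of_points (code_inv P H hk).1 _ (fun _ => false) h with ⟨-, hl⟩ | ⟨he, -⟩
  · exact hl
  · exact absurd (he 0) (by simp)

omit P in
theorem omp_plane : ∀ a : Fin 3, ∀ k : Fin 4,
    omp a (ev k) ^^^ omp a (ov k) = omv (omp a (ov k)) ∧ omp a (ov k) = omv (omp a (ev k)) := by
  decide +kernel

/-- The centraliser of a point is linear. -/
theorem centPt_lin (H : Hyp z Q) (k : Fin 4) {g : G}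
    (hg : g ∈ centralizer ({D.pt k} : Set G) ⊓ centralizer ({D.t 0} : Set G)) : IsLin (code D g) := by
  have hgL : g ∈ L := P.centPt k hg
  have hgp : Commute g (D.pt k) := mem_centralizer_singleton_iff.1 hg.1
  have hgt : Commute g (D.t 0) := L_comm P hgL
  obtain ⟨n, hn⟩ : ∃ n, mv D k = n := ⟨_, rfl⟩
  have hnt : Commute n (D.t 0) := hn ▸ L_comm P (mv_L P k)
  -- the cube fixes the vectors of the plane
  have hcube : ∀ x ∈ P.Rk k,
      app (code D g) (app (code D g) (app (code D g) (cw D x))) = cw D x := by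
    intro x hx
    have hxK := Rk_le_K P k hx
    have hg3 : g * g * g ∈ L := mul_mem (mul_mem hgL hgL) hgL
    have hh : Commute (n⁻¹ * g * n) z := hn ▸ mv_conj D k hgp
    have hht : Commute (n⁻¹ * g * n) (D.t 0) := (hnt.inv_left.mul_left hgt).mul_left hnt
    obtain ⟨q, hq, r, hr, s, hs, e⟩ := odd_pow D H (mem_centralizer_singleton_iff.2 hh.eq) hht
    have hy : n⁻¹ * x * n ∈ D.R 0 := hn ▸ (mem_Rk_iff P H k).1 hx
    obtain ⟨y, hy'⟩ : ∃ y, n⁻¹ * x * n = y := ⟨_, rfl⟩
    rw [hy'] at hy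
    have hcs : Commute s y := (D.R_comm y hy s hs).symm
    have e3 : (q * r * s) * y * (q * r * s)⁻¹ * y⁻¹ ∈ zpowers (D.t 0) := by
      have h1 : (q * r * s) * y * (q * r * s)⁻¹ = q * ⁅r, y⁆ * q⁻¹ * y := by
        have hqy : Commute q y := (D.R_cent 0 1 (by decide) y hy q hq).symm
        calc (q * r * s) * y * (q * r * s)⁻¹ = q * r * (s * y * s⁻¹) * r⁻¹ * q⁻¹ := by group
          _ = q * (r * y * r⁻¹) * q⁻¹ := by rw [hcs.eq, mul_inv_cancel_right]; group
          _ = q * ⁅r, y⁆ * (y * q⁻¹) := by rw [commutatorElement_def]; group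
          _ = q * ⁅r, y⁆ * q⁻¹ * y := by rw [← hqy.inv_left.eq]; group
      rw [h1, mul_inv_cancel_right]
      rcases (cover_R D 0).1.comm_cases (t_sq D 0) hr hy with e' | e' <;> rw [e']
      · rw [mul_one, mul_inv_cancel]; exact one_mem _
      · rw [(tQ1 D hq).symm.eq, mul_inv_cancel_right]; exact mem_zpowers _
    have he : x⁻¹ * (g * g * g * x * (g * g * g)⁻¹) ∈ zpowers (D.t 0) := by
      obtain ⟨c, hcd⟩ : ∃ c, (q * r * s) * y * (q * r * s)⁻¹ * y⁻¹ = c := ⟨_, rfl⟩
      rw [hcd] at e3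
      have hce : ∀ w, Commute w (D.t 0) → w * c * w⁻¹ = c := fun w hw => by
        obtain ⟨m, rfl⟩ := mem_zpowers_iff.1 e3
        rw [(hw.zpow_right m).eq, mul_inv_cancel_right]
      have hxy : x = n * y * n⁻¹ := by rw [← hy']; group
      have hg3' : g * g * g = n * (q * r * s) * n⁻¹ := by
        rw [← e]
        simp only [pow_succ, pow_zero, one_mul]
        group
      have : x⁻¹ * (g * g * g * x * (g * g * g)⁻¹) = c := by
        have hxc : Commute x (D.t 0) := mem_centralizer_singleton_iff.1 (P.le hxK)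
        calc x⁻¹ * (g * g * g * x * (g * g * g)⁻¹)
            = x⁻¹ * (n * ((q * r * s) * y * (q * r * s)⁻¹ * y⁻¹) * n⁻¹) * x := by rw [hg3', hxy]; group
          _ = x⁻¹ * c * x := by rw [hcd, hce n hnt]
          _ = c := by simpa using hce x⁻¹ hxc.inv_left
      rw [this]; exact e3
    have h := (cw_t_mul P H hxK (L_norm P hg3 hxK) he).trans (act P H hg3 hxK)
    rw [code_mul P H (mul_mem hgL hgL) hgL, code_mul P H hgL hgL, app_cmp, app_cmp] at h
    exact h.symm
  have hE := eG_mem P H k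
  have hO := oG_mem P H k
  have hpe : InPl k (app (code D g) (ev k)) := by
    rw [← (cw_e P H k).1, ← act P H hgL (Rk_le_K P k hE)]
    exact cw_plane P H (Rk_conj P H hgL hgp hE)
  have hpo : InPl k (app (code D g) (ov k)) := by
    rw [← (cw_e P H k).2, ← act P H hgL (Rk_le_K P k hO)]
    exact cw_plane P H (Rk_conj P H hgL hgp hO)
  obtain ⟨a, hae, hao⟩ := plane_rot k hpe hpo (by
    have := hcube _ hE; rwa [(cw_e P H k).1] at this) (by
    have := hcube _ hO; rwa [(cw_e P H k).2] at this)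
  refine lin_of_point k ?_ (by rw [hae, hao]; exact (omp_plane a k).2)
    (by rw [app_xor, hae, hao]; exact (omp_plane a k).1)
  rw [← code_pt P H k]
  exact code_commute P H hgL (pt_mem_L P k) hgp

theorem core_good (H : Hyp z Q) {l : G} (hl : l ∈ core D K) : Good (code D l) := by
  let S : Submonoid G :=
    { carrier := {g | g ∈ L ∧ Good (code D g)}
      one_mem' := ⟨one_mem _, by rw [code_one P H]; exact good_idm⟩
      mul_mem' := fun {a b} ha hb => ⟨mul_mem ha.1 hb.1, by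
        rw [code_mul P H ha.1 hb.1]; exact good_cmp ha.2 hb.2⟩ }
  let S' : Subgroup G :=
    { S with
      inv_mem' := fun {a} ha => by
        have hpow : a ^ (orderOf a - 1) ∈ S := pow_mem ha _
        have hinv : a⁻¹ = a ^ (orderOf a - 1) := by
          refine inv_eq_of_mul_eq_one_right ?_
          rw [← pow_succ', Nat.sub_add_cancel (orderOf_pos a), pow_orderOf_eq_one]
        rw [hinv]; exact hpow }
  suffices core D K ≤ S' from (this hl).2
  refine sup_le (sup_le (fun g hg => ?_) fun g hg => ⟨nt_le P hg, nt_good P H hg⟩) (iSup_le fun k g hg => ?_)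
  · exact ⟨K_le_L P hg, by rw [(code_ker P H (K_le_L P hg)).2 hg]; exact good_idm⟩
  · exact ⟨P.centPt k hg, isCode_cd _ _, Or.inl (centPt_lin P H k hg), code_iso P H (P.centPt k hg)⟩

omit P in
theorem getD_five {α : Type} (a b c d e x : α) :
    [a, b, c, d, e].getD 0 x = a ∧ [a, b, c, d, e].getD 1 x = b ∧ [a, b, c, d, e].getD 2 x = c ∧
      [a, b, c, d, e].getD 3 x = d ∧ [a, b, c, d, e].getD 4 x = e ∧
      ∀ j, [a, b, c, d, e].getD (j + 5) x = x :=
  ⟨rfl, rfl, rfl, rfl, rfl, fun _ => rfl⟩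

omit P in
theorem getD_gensFour (c : ℕ) :
    (gensFour c).getD 0 idm = gPt 0 ∧ (gensFour c).getD 1 idm = gPt 1 ∧ (gensFour c).getD 2 idm = gPt 2 ∧
      (gensFour c).getD 3 idm = gPt 3 ∧ (gensFour c).getD 4 idm = c ∧
      ∀ j, (gensFour c).getD (j + 5) idm = idm := by
  rw [gensFour]; exact getD_five _ _ _ _ _ _

omit P in
theorem evW_cons (gens : List ℕ) (j : ℕ) (w : List ℕ) :
    evW gens (j :: w) = ⊚ (gens.getD j idm) (evW gens w) := by
  rw [evW]

/-- The element of order four on the planes other than `i`. -/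
theorem att_hh (H : Hyp z Q) (i : Fin 4) : ∃ l ∈ core D K, code D l = hh i := by
  obtain ⟨n, hn⟩ : ∃ n, mv D i = n := ⟨_, rfl⟩
  obtain ⟨r, hrd⟩ : ∃ r, four0 D 1 = r := ⟨_, rfl⟩
  have hr : r ∈ D.R 1 := hrd ▸ four0_mem D 1
  have hr2 : r * r = D.t 1 := hrd ▸ four0_sq D 1
  have hnL : n ∈ L := hn ▸ mv_L P i
  have hnt : Commute n (D.t 0) := L_comm P hnL
  obtain ⟨g, hgd⟩ : ∃ g, n * r * n⁻¹ = g := ⟨_, rfl⟩
  have hgP : g ∈ centralizer ({D.pt i} : Set G) ⊓ centralizer ({D.t 0} : Set G) := by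
    have hrz : Commute r z := mem_centralizer_singleton_iff.1 (D.R_le 1 hr)
    have hrt : Commute r (D.t 0) := tR D hr
    refine ⟨mem_centralizer_singleton_iff.2 ?_, mem_centralizer_singleton_iff.2 ?_⟩
    · have := hrz.map (MulAut.conj n).toMonoidHom
      simp only [MulEquiv.coe_toMonoidHom, MulAut.conj_apply] at this
      rw [hgd] at this
      rw [← mv_z D i, hn]
      exact this.eq
    · rw [← hgd]; exact ((hnt.mul_left hrt).mul_left hnt.inv_left).eq
  have hgL := P.centPt i hgP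
  have hgg : g * g = n * D.t 1 * n⁻¹ := by rw [← hgd, conj_mul, hr2]
  have hg2 : ⊚ (code D g) (code D g) ≠ idm := by
    rw [← code_mul P H hgL hgL]
    intro e
    have hK : n⁻¹ * (g * g) * n ∈ K := by
      have := L_norm P (inv_mem hnL) ((code_ker P H (mul_mem hgL hgL)).1 e)
      rwa [inv_inv] at this
    rw [hgg, show n⁻¹ * (n * D.t 1 * n⁻¹) * n = D.t 1 by group] at hK
    have hR := K_cent_z P H hK (mem_centralizer_singleton_iff.1 (t_cent D 1))
    obtain ⟨x, hx, hxz⟩ := block_ne D 0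
    exact t_ne D 1 (faith' D hR hx hxz (D.R_cent 1 0 (by decide) _ (D.t_mem 1) x hx))
  have hg4 : ⊚ (⊚ (code D g) (code D g)) (⊚ (code D g) (code D g)) = idm := by
    rw [← code_mul P H hgL hgL, ← code_mul P H (mul_mem hgL hgL) (mul_mem hgL hgL), hgg, conj_mul, t_sq,
      mul_one, mul_inv_cancel, code_one P H]
  have hf : app (code D g) (2 ^ (2 * (i : ℕ))) = 2 ^ (2 * (i : ℕ)) := by
    show app (code D g) (ev i) = ev i
    have hc : g * eG D i * g⁻¹ = eG D i := by
      rw [eG, hn, ← hgd, conj_mul, show (n * r * n⁻¹)⁻¹ = n * r⁻¹ * n⁻¹ by group, conj_mul,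
        (D.R_comm _ (four0_mem D 0) r hr).symm.eq, mul_inv_cancel_right]
    rw [← (cw_e P H i).1, ← act P H hgL (Rk_le_K P i (eG_mem P H i)), hc]
  obtain ⟨w, hw⟩ := reach_hh (isCode_cd _ _) (centPt_lin P H i hgP) (code_iso P H hgL) i hf hg2 hg4
  have hword : ∀ w : List ℕ, ∃ l ∈ core D K, code D l = evW (gensFour (code D g)) w := by
    intro w
    induction w with
    | nil => exact ⟨1, one_mem _, code_one P H⟩
    | cons j w ih =>
      obtain ⟨m, hm, hmc⟩ := ih
      have hgen : ∀ j, ∃ l ∈ core D K, code D l = (gensFour (code D g)).getD j idm := by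
        intro j
        have hin : ∀ k, ∀ l ∈ centralizer ({D.pt k} : Set G) ⊓ centralizer ({D.t 0} : Set G), l ∈ core D K :=
          fun k l hl => mem_sup_right (le_iSup
            (fun k => centralizer ({D.pt k} : Set G) ⊓ centralizer ({D.t 0} : Set G)) k hl)
        have hpin : ∀ k, D.pt k ∈ core D K := fun k => hin k _
          ⟨mem_centralizer_singleton_iff.2 rfl, mem_centralizer_singleton_iff.2 (pt_comm_t D k).eq⟩
        obtain ⟨e0, e1, e2, e3, e4, e5⟩ := getD_gensFour (code D g)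
        match j with
        | 0 => exact ⟨_, hpin 0, (code_pt P H 0).trans e0.symm⟩
        | 1 => exact ⟨_, hpin 1, (code_pt P H 1).trans e1.symm⟩
        | 2 => exact ⟨_, hpin 2, (code_pt P H 2).trans e2.symm⟩
        | 3 => exact ⟨_, hpin 3, (code_pt P H 3).trans e3.symm⟩
        | 4 => exact ⟨g, hin i g hgP, e4.symm⟩
        | j + 5 => exact ⟨1, one_mem _, (code_one P H).trans (e5 j).symm⟩
      obtain ⟨l, hl, hlc⟩ := hgen j
      exact ⟨l * m, mul_mem hl hm, by rw [code_mul P H (core_le P hl) (core_le P hm), hlc, hmc, evW_cons]⟩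
  obtain ⟨l, hl, e⟩ := hword w
  exact ⟨l, hl, e.trans hw⟩

/-- The scalar group in the wide case. -/
theorem scalar_code (H : Hyp z Q) (W : Wide D.F) : W.e 0 * W.e 1 ∈ L ∧
    (code D (W.e 0 * W.e 1) = gOm ∨ code D (W.e 0 * W.e 1) = ⊚ gOm gOm) := by
  obtain ⟨e, hed⟩ : ∃ e, W.e 0 * W.e 1 = e := ⟨_, rfl⟩
  rw [hed]
  -- the permutation behind an element of the normaliser of the frame
  have hperm : ∀ n ∈ normalizer (D.F.J : Set G), ∀ τ : Equiv.Perm (Fin 6),
      (∀ a b, n * D.F.j a b * n⁻¹ = D.F.j (τ a) (τ b)) → ∀ a, n * W.e a * n⁻¹ = W.e (τ a) := by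
    intro n hn τ hτ
    obtain ⟨σ, hσ | hσ⟩ := W.mono n hn
    · intro a
      obtain ⟨b, hb⟩ : ∃ b : Fin 6, a ≠ b := by revert a; decide
      have hd := hτ a b
      rw [W.diff, ← conj_mul, ← conj_inv, hσ, hσ, ← W.diff] at hd
      rw [hσ, (j_inj D.F (fun e => hb (σ.injective e)) hd).1]
    · exfalso
      have key : ∀ a b, a ≠ b → σ b = τ a := fun a b hab => by
        have hd := hτ a b
        rw [W.diff, ← conj_mul, ← conj_inv, hσ, hσ, inv_inv, ← ((W.comm (σ b) (σ a)).inv_right).eq,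
          ← W.diff] at hd
        exact (j_inj D.F (fun e => hab (σ.injective e).symm) hd).1
      exact absurd (σ.injective ((key 0 1 (by decide)).trans (key 0 2 (by decide)).symm)) (by decide)
  have hfix : ∀ n ∈ normalizer (D.F.J : Set G), ∀ τ : Equiv.Perm (Fin 6),
      (∀ a b, n * D.F.j a b * n⁻¹ = D.F.j (τ a) (τ b)) → (τ 0 = 0 ∧ τ 1 = 1 ∨ τ 0 = 1 ∧ τ 1 = 0) →
        Commute n e := by
    intro n hn τ hτ h01
    refine mul_inv_eq_iff_eq_mul.1 ?_
    rw [← hed, ← conj_mul, hperm n hn τ hτ, hperm n hn τ hτ]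
    rcases h01 with ⟨e0, e1⟩ | ⟨e0, e1⟩ <;> rw [e0, e1]
    exact (W.comm 1 0).eq
  have hJ : ∀ a, W.e a ∈ centralizer (D.F.J : Set G) := fun a =>
    W.span ▸ subset_closure ⟨a, rfl⟩
  have heC : e ∈ centralizer (D.F.J : Set G) := hed ▸ mul_mem (hJ 0) (hJ 1)
  have het : Commute (D.t 0) e := hfix _ (t_normJ D) (Equiv.swap 0 1) D.t_zero
    (Or.inr ⟨Equiv.swap_apply_left _ _, Equiv.swap_apply_right _ _⟩)
  have heL : e ∈ L := P.frame ⟨heC, mem_centralizer_singleton_iff.2 het.eq.symm⟩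
  have hep : ∀ k, Commute e (D.pt k) := fun k => (mem_centralizer_iff.1 heC _ (pt_mem_J D k)).symm
  have he3 : e * e * e = 1 := by
    rw [← hed, ← pow_two, ← pow_succ, (W.comm 0 1).mul_pow, W.cube, W.cube, one_mul]
  have he1 : e ≠ 1 := by
    intro h
    have h1 : W.e 1 = (W.e 0)⁻¹ := eq_inv_of_mul_eq_one_right (hed.trans h)
    have hmem : ∀ a, W.e a ∈ D.F.J := by
      have h0 : W.e 0 = D.F.j 0 1 * D.F.j 0 1 := by
        rw [W.diff, h1, inv_inv]
        calc W.e 0 = W.e 0 ^ 3 * W.e 0 := by rw [W.cube, one_mul]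
          _ = W.e 0 * W.e 0 * (W.e 0 * W.e 0) := by simp only [pow_succ, pow_zero, one_mul, mul_assoc]
      intro a
      have : W.e a = D.F.j a 0 * W.e 0 := by rw [W.diff, inv_mul_cancel_right]
      rw [this, h0]
      exact mul_mem (j_mem D.F _ _) (mul_mem (j_mem D.F _ _) (j_mem D.F _ _))
    have hle : centralizer (D.F.J : Set G) ≤ D.F.J := by
      rw [W.span, closure_le]
      rintro _ ⟨a, rfl⟩
      exact hmem a
    have := Subgroup.card_le_of_le hle
    rw [W.card, D.F.card] at this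
    omega
  have hidm : code D e ≠ idm := fun h => he1 <| orderOf_eq_one_iff.1 <| by
    refine Nat.eq_one_of_dvd_coprimes (show Nat.Coprime (2 ^ 9) 3 by norm_num) ?_
      (orderOf_dvd_of_pow_eq_one (by rw [pow_succ, pow_two, he3]))
    rw [← P.card]
    exact Subgroup.orderOf_dvd_natCard _ ((code_ker P H heL).1 h)
  obtain ⟨a, ha⟩ := exists_dg_code P H heL hep he3
  have hconst : ∀ k, a k = a 0 := by
    intro k
    have hk := mv_L P k
    have hswap : ∀ k : Fin 4, Equiv.swap (2 : Fin 6) (up k) 0 = 0 ∧ Equiv.swap (2 : Fin 6) (up k) 1 = 1 := by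
      decide +kernel
    have hcm : Commute (mv D k) e := hfix _ (mv_mem D k).1 _ (mv_j D k) (Or.inl (hswap k))
    have hcc := code_commute P H hk heL hcm
    have hx : four0 D 0 ∈ P.Rk 0 := P.Rk_zero.symm ▸ four0_mem D 0
    obtain ⟨v, hv⟩ : ∃ v, cw D (four0 D 0) = v := ⟨_, rfl⟩
    have hvP : InPl 0 v := hv ▸ cw_plane P H hx
    have hcv : app (code D (mv D k)) v = ev k := by
      rw [← hv, ← act P H hk (Rk_le_K P 0 hx)]
      exact (cw_e P H k).1
    have homv : ∀ w, app (code D (mv D k)) (omv w) = omv (app (code D (mv D k)) w) := fun w => by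
      rw [omv_eq, omv_eq, ← app_cmp, mv_lin P H k, app_cmp]
    have hiter : ∀ j : ℕ, ∀ w, app (code D (mv D k)) (omv^[j] w) = omv^[j] (app (code D (mv D k)) w) := by
      intro j
      induction j with
      | zero => intro w; rfl
      | succ j ih => intro w; rw [Function.iterate_succ_apply', homv, ih, Function.iterate_succ_apply']
    have h1 := congrArg (fun c => app c v) hcc
    simp only [app_cmp, ha] at h1
    rw [hcv, app_dg a hvP, app_dg a (Or.inr (Or.inl rfl))] at h1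
    refine (omp_tab k _).1 (a 0) ?_
    rw [← h1]
    exact (hiter _ v).trans (by rw [hcv]; rfl)
  refine ⟨heL, ?_⟩
  have key : ∀ b : Fin 3, dg (fun _ => b) = idm ∨ dg (fun _ => b) = gOm ∨
      dg (fun _ => b) = ⊚ gOm gOm := by decide +kernel
  have hf : a = fun _ => a 0 := funext hconst
  rw [ha, hf] at hidm ⊢
  exact (key (a 0)).resolve_left hidm

theorem wide_good (H : Hyp z Q) (h7 : 3 ^ 7 ∣ Nat.card ↥(centralizer ({z} : Set G))) {l : G} (hl : l ∈ L) :
    Good (code D l) := by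
  obtain ⟨W⟩ := D.wide h7
  obtain ⟨heL, hom⟩ := scalar_code P H W
  obtain ⟨e, hed⟩ : ∃ e, W.e 0 * W.e 1 = e := ⟨_, rfl⟩
  rw [hed] at heL hom
  have hmul : ∀ x ∈ [idm, gOm, ⊚ gOm gOm], ∀ y ∈ [idm, gOm, ⊚ gOm gOm],
      ⊚ x y ∈ [idm, gOm, ⊚ gOm gOm] := by decide +kernel
  let S : Submonoid G :=
    { carrier := {g | g ∈ L ∧ code D g ∈ [idm, gOm, ⊚ gOm gOm]}
      one_mem' := ⟨one_mem _, by rw [code_one P H]; simp⟩
      mul_mem' := fun {a b} ha hb => ⟨mul_mem ha.1 hb.1, by
        rw [code_mul P H ha.1 hb.1]; exact hmul _ ha.2 _ hb.2⟩ }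
  let S' : Subgroup G :=
    { S with
      inv_mem' := fun {a} ha => by
        have hpow : a ^ (orderOf a - 1) ∈ S := pow_mem ha _
        have hinv : a⁻¹ = a ^ (orderOf a - 1) := by
          refine inv_eq_of_mul_eq_one_right ?_
          rw [← pow_succ', Nat.sub_add_cancel (orderOf_pos a), pow_orderOf_eq_one]
        rw [hinv]; exact hpow }
  have hle : K ⊔ Z3 ≤ S' := by
    refine sup_le (fun g hg => ⟨K_le_L P hg, by rw [(code_ker P H (K_le_L P hg)).2 hg]; simp⟩) ?_
    rw [P.wide W, hed, zpowers_le]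
    exact ⟨heL, by rcases hom with h | h <;> simp [h]⟩
  have hl' := hl
  rw [P.hL] at hl'
  obtain ⟨-, hmem⟩ := hle ((mem_normalizer_iff.1 hl'.2 e).1
    (mem_sup_right (P.wide W ▸ hed ▸ mem_zpowers _)))
  have hconj : ⊚ (code D l) (code D e) = ⊚ (code D (l * e * l⁻¹)) (code D l) := code_conj P H hl heL rfl
  refine ⟨isCode_cd _ _, ?_, code_iso P H hl⟩
  obtain ⟨c, hc⟩ : ∃ c, code D l = c := ⟨_, rfl⟩
  have hcode : IsCode c := hc ▸ isCode_cd _ _
  obtain ⟨-, -, e3, -⟩ := om_eqs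
  have hne : gOm ≠ idm ∧ ⊚ gOm gOm ≠ idm ∧ ⊚ (⊚ gOm gOm) (⊚ gOm gOm) = gOm := by decide +kernel
  have hcancel : ∀ w, IsCode w → ⊚ c w = c → w = idm := fun w hw h => by
    have h2 := congrArg (⊚ (code D l⁻¹)) h
    rw [← cmp_assoc, ← hc, (code_inv P H hl).1, idm_cmp hw] at h2
    exact h2
  rw [hc] at hconj ⊢
  show IsLin c ∨ ⊚ c gOm = ⊚ (⊚ gOm gOm) c
  simp only [List.mem_cons, List.not_mem_nil, or_false] at hmem
  rcases hom with ho | ho <;> rcases hmem with hm | hm | hm <;> rw [ho, hm] at hconj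
  · rw [idm_cmp hcode] at hconj; exact absurd (hcancel _ isCode_gOm hconj) hne.1
  · exact Or.inl hconj
  · exact Or.inr hconj
  · rw [idm_cmp hcode] at hconj; exact absurd (hcancel _ (isCode_cmp _ _) hconj) hne.2.1
  · refine Or.inr ?_
    calc ⊚ c gOm = ⊚ (⊚ c (⊚ gOm gOm)) (⊚ gOm gOm) := by rw [cmp_assoc, hne.2.2]
      _ = ⊚ (⊚ gOm gOm) c := by rw [hconj, cmp_assoc gOm c, hconj, ← cmp_assoc]
  · refine Or.inl ?_
    calc ⊚ c gOm = ⊚ (⊚ c (⊚ gOm gOm)) (⊚ gOm gOm) := by rw [cmp_assoc, hne.2.2]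
      _ = ⊚ gOm c := by rw [hconj, cmp_assoc (⊚ gOm gOm) c, hconj, ← cmp_assoc, hne.2.2]

end Co

/-- The coordinates exist. -/
theorem exists_coord (H : Hyp z Q) (P : Prep D K Z3 L) : Nonempty (Coord D K L) := by
  classical
  have B := bas P H
  let vec : ℕ → G := fun v => if h : v < 256 then (B.co_surj v h).choose else 1
  have hv : ∀ v < 256, vec v ∈ K ∧ cw D (vec v) = v := fun v h => by
    simp only [vec, dif_pos h]; exact (B.co_surj v h).choose_spec
  refine ⟨{
    vec := vec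
    code := Co.code D
    vec_mem := fun a ha => (hv a ha).1
    vec_xor := fun a ha b hb => ?_
    vec_ker := fun a ha h => ?_
    vec_surj := fun x hx => ⟨cw D x, co_lt _ _,
      B.co_inj (hv _ (co_lt _ _)).1 hx (hv _ (co_lt _ _)).2⟩
    vec_sq := fun a ha => ?_
    isCode := fun l => isCode_cd _ _
    code_mul := fun l hl m hm => Co.code_mul P H hl hm
    conj := fun l hl a ha => ?_
    iso := fun l hl => code_iso P H hl
    ker := fun l hl => code_ker P H hl
    K_le := K_le_L P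
    core_le := Co.core_le P
    good := fun l hl => core_good P H hl
    att := ?_
    code_pt := Co.code_pt P H
    lin_centPt := fun k l hl => centPt_lin P H k hl
    scalar := fun W => scalar_code P H W
    good_wide := fun h7 l hl => wide_good P H h7 hl }⟩
  · refine B.co_inj (hv _ (Nat.xor_lt_two_pow (n := 8) ha hb)).1 (mul_mem (hv a ha).1 (hv b hb).1) ?_
    rw [B.co_mul (hv a ha).1 (hv b hb).1]
    exact ((hv _ (Nat.xor_lt_two_pow (n := 8) ha hb)).2).trans
      (congrArg₂ (· ^^^ ·) (hv a ha).2 (hv b hb).2).symm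
  · rw [← (hv a ha).2]
    refine (cw_t_mul P H (one_mem K) (hv a ha).1 (by rwa [inv_one, one_mul])).symm.trans ?_
    exact B.co_one
  · have := B.sq_all (qv_unit P) (hv a ha).1
    rwa [show co (bb D) (vec a) = a from (hv a ha).2] at this
  · refine B.co_inj (hv _ (app_lt _ _)).1 (L_norm P hl (hv a ha).1) ?_
    show cw D _ = cw D _
    rw [(hv _ (app_lt _ _)).2, act P H hl (hv a ha).1, (hv a ha).2]
  · intro g hg
    simp only [gensS, List.mem_cons, List.not_mem_nil, or_false] at hg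
    have hp : ∀ k, ∃ l ∈ core D K, Co.code D l = gPt k := fun k => ⟨D.pt k,
      mem_sup_right (le_iSup (fun k => centralizer ({D.pt k} : Set G) ⊓ centralizer ({D.t 0} : Set G)) k
        ⟨mem_centralizer_singleton_iff.2 rfl, mem_centralizer_singleton_iff.2 (pt_comm_t D k).eq⟩),
      Co.code_pt P H k⟩
    rcases hg with rfl | rfl | rfl | rfl | rfl | rfl | rfl | rfl
    exacts [hp 0, hp 1, hp 2, hp 3, att_hh P H 0, att_hh P H 1, att_hh P H 2, att_hh P H 3]

end Cfsg.Agent.U62Three.K
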