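import Cfsg.Agent.U62Three.Defs
import Cfsg.Agent.U62Three.K.Extra

/-!
# The local facts used to build the normal subgroup of order 512 of the involution centraliser
-/

set_option autoImplicit false

open Subgroup

namespace Cfsg.Agent.U62Three.K

universe u

variable {G : Type u} [Group G] {z : G}

/-- The point of the frame carried by `{i, 4, 5}`. -/
def pt (Φ : Frame z) (i : Fin 4) : G := Φ.j (i.castLE (by omega)) 4 * Φ.j 5 4

/-- The root `e_k - e_l` among the first four places. -/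
def root (Φ : Frame z) (k l : Fin 4) : G := Φ.j (k.castLE (by omega)) (l.castLE (by omega))

/-- The centraliser of `t`. -/
abbrev ct (t : G) : Subgroup G := centralizer ({t} : Set G)

/-- The part of the frame centralised by `t`. -/
abbrev jt (Φ : Frame z) (t : G) : Subgroup G := Φ.J ⊓ ct t

/-- The facts: `t` is the transposition `(4 5)`; `R i` is the quaternion subgroup at the point `pt i`; `B i` the
group of order 27 of the other block and `P i` its quaternion group. -/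
structure Loc (Φ : Frame z) (t : G) (R B P : Fin 4 → Subgroup G) : Prop where
  ot : t ≠ 1
  t2 : t * t = 1
  tJ : t ∈ normalizer (Φ.J : Set G)
  tact : ∀ a b, t * Φ.j a b * t⁻¹ = Φ.j (Equiv.swap 4 5 a) (Equiv.swap 4 5 b)
  cover : ∀ i, Cover t (R i)
  card : ∀ i, Nat.card ↥(R i) = 8
  nonab : ∀ i, ∃ a ∈ R i, ∃ b ∈ R i, a * b ≠ b * a
  le : ∀ i, R i ≤ ct t ⊓ centralizer ({pt Φ i} : Set G)
  norm : ∀ i, ct t ⊓ centralizer ({pt Φ i} : Set G) ≤ normalizer (R i : Set G)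
  max : ∀ i (X : Subgroup G), X ≤ ct t ⊓ centralizer ({pt Φ i} : Set G) → (Nat.card ↥X).Coprime 3 →
    jt Φ t ≤ normalizer (X : Set G) → X ≤ R i
  free : ∀ i k, i ≠ k → ∀ r ∈ R i, Commute (pt Φ k) r → r = 1 ∨ r = t
  root_comm : ∀ i k l, i ≠ k → i ≠ l → ∀ r ∈ R i, Commute (root Φ k l) r
  root_cover : ∀ i i', i ≠ i' → ∃ E : Subgroup G, Cover t E ∧ R i ≤ E ∧ R i' ≤ E ∧
    jt Φ t ≤ normalizer (E : Set G)
  root_two : ∀ i m k l : Fin 4, i ≠ m → k ≠ l → i ≠ k → i ≠ l → m ≠ k → m ≠ l → ∀ X : Subgroup G,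
    X ≤ ct t ⊓ centralizer ({root Φ k l} : Set G) ⊓ centralizer (R i : Set G) → IsPGroup 2 ↥X → X ≤ R m
  root_gen : ∀ i m k l : Fin 4, i ≠ m → k ≠ l → i ≠ k → i ≠ l → m ≠ k → m ≠ l →
    ct t ⊓ centralizer ({root Φ k l} : Set G) ≤ R i ⊔ R m ⊔ (normalizer (Φ.J : Set G) ⊓ ct t)
  b_local : ∀ i k, i ≠ k → ct t ⊓ centralizer ({pt Φ i * pt Φ k} : Set G) ≤ normalizer (Φ.J : Set G)
  perm : ∀ n ∈ normalizer (Φ.J : Set G), n * t = t * n →
    ∀ i, ∃ m, n * pt Φ i * n⁻¹ = pt Φ m ∨ n * pt Φ i * n⁻¹ = (pt Φ m)⁻¹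
  B_le : ∀ i, B i ≤ ct t ⊓ centralizer ({pt Φ i} : Set G) ⊓ centralizer (R i : Set G) ⊓
    normalizer (Φ.J : Set G)
  root_B : ∀ i k l, i ≠ k → i ≠ l → root Φ k l ∈ B i
  B_cases : ∀ i, ∀ e ∈ B i, e ∈ zpowers (pt Φ i) ∨ (∃ k l, i ≠ k ∧ i ≠ l ∧ k ≠ l ∧ e = root Φ k l) ∨
    ∃ σ : Equiv.Perm (Fin 4), σ i = i ∧ σ ≠ 1 ∧ σ * σ * σ = 1 ∧ ∀ m, e * pt Φ m * e⁻¹ = pt Φ (σ m)
  P_le : ∀ i, P i ≤ ct t ⊓ centralizer ({pt Φ i} : Set G) ⊓ centralizer (R i : Set G) ⊓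
    normalizer (B i : Set G)
  pt_gen : ∀ i, ct t ⊓ centralizer ({pt Φ i} : Set G) ≤
    R i ⊔ P i ⊔ (normalizer (Φ.J : Set G) ⊓ ct t)
  scalar : ∀ x ∈ ct t, (∀ y ∈ jt Φ t, Commute x y) → (∀ i, ∀ r ∈ R i, Commute x r) → x = 1 ∨ x = t

/-- The subgroup of order 512. -/
def kk (R : Fin 4 → Subgroup G) : Subgroup G := ⨆ i, R i

/-- Its normaliser in the centraliser of `t`. -/
def ll (t : G) (R : Fin 4 → Subgroup G) : Subgroup G := ct t ⊓ normalizer (kk R : Set G)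

end Cfsg.Agent.U62Three.K
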