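import Cfsg.Agent.U62Three.K.Basic
import Cfsg.Agent.Coprime.Generation

/-!
# The extraspecial subgroup of the centraliser of the involution and its normaliser
-/

set_option autoImplicit false
set_option linter.unusedSectionVars false

open Subgroup Cfsg

namespace Cfsg.Agent.U62Three.K

universe u

theorem perm_three : ∀ σ : Equiv.Perm (Fin 4), ∀ i m : Fin 4, σ i = i → σ ≠ 1 → σ * σ * σ = 1 → m ≠ i →
    σ m ≠ m ∧ σ (σ m) ≠ m ∧ σ (σ m) ≠ σ m ∧ σ m ≠ i ∧ σ (σ m) ≠ i := by
  decide +kernel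

theorem four_points : ∀ i m : Fin 4, m ≠ i → ∃ k l : Fin 4, i ≠ k ∧ i ≠ l ∧ k ≠ l ∧ m ≠ k ∧ m ≠ l := by
  decide +kernel

theorem fourth_point : ∀ i k l : Fin 4, i ≠ k → i ≠ l → k ≠ l → ∃ m, i ≠ m ∧ m ≠ k ∧ m ≠ l := by
  decide +kernel

variable {G : Type u} [Group G] [Finite G] {z : G} {Φ : Frame z} {t : G} {R B P : Fin 4 → Subgroup G}
  (h : Loc Φ t R B P)

include h

theorem Loc.four_kk : Cover t (kk R) ∧ Nat.card ↥(kk R) = 2 ^ 9 ∧ IsExtraspecial 2 ↥(kk R) :=
  four h.ot h.t2 R h.cover h.card ⟨0, h.nonab 0⟩ fun _ _ hik => h.comm hik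

theorem Loc.kk_le : kk R ≤ ct t := iSup_le fun i => (h.le i).trans inf_le_left

theorem Loc.R_kk (i : Fin 4) : R i ≤ kk R := le_iSup R i

/-- An element of the normaliser of the frame maps a quaternion subgroup onto another. -/
theorem Loc.map_R {n : G} (hn : n ∈ normalizer (Φ.J : Set G)) (hnt : n * t = t * n) {i m : Fin 4}
    (he : n * pt Φ i * n⁻¹ = pt Φ m ∨ n * pt Φ i * n⁻¹ = (pt Φ m)⁻¹) :
    (R i).map (MulAut.conj n).toMonoidHom = R m := by
  have hcard : Nat.card ↥((R i).map (MulAut.conj n).toMonoidHom) = 8 := by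
    rw [card_map_of_injective (MulAut.conj n).injective, h.card]
  refine eq_of_le_of_card_ge (h.max m _ ?_ ?_ ?_) (by rw [hcard, h.card])
  · rintro _ ⟨r, hr, rfl⟩
    obtain ⟨hrt, hrp⟩ := h.le i hr
    show n * r * n⁻¹ ∈ _
    refine ⟨mem_centralizer_singleton_iff.2 ?_, mem_centralizer_singleton_iff.2 ?_⟩
    · have h1 : n * t * n⁻¹ = t := by rw [hnt, mul_inv_cancel_right]
      conv_lhs => rw [← h1]
      conv_rhs => rw [← h1]
      rw [conj_mul, conj_mul, mem_centralizer_singleton_iff.1 hrt]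
    · have h2 : Commute (n * r * n⁻¹) (n * pt Φ i * n⁻¹) := by
        rw [commute_iff_eq, conj_mul, conj_mul, mem_centralizer_singleton_iff.1 hrp]
      rcases he with e | e <;> rw [e] at h2
      · exact h2.eq
      · simpa using h2.inv_right.eq
  · rw [hcard]; decide
  · intro y hy
    rw [mem_normalizer_iff]
    intro w
    have hy' : n⁻¹ * y * n ∈ jt Φ t := by
      refine ⟨?_, mem_centralizer_singleton_iff.2 ?_⟩
      · have := (mem_normalizer_iff.1 (inv_mem hn) y).1 hy.1
        rwa [inv_inv] at this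
      · have hyt : y * t = t * y := mem_centralizer_singleton_iff.1 hy.2
        calc n⁻¹ * y * n * t = n⁻¹ * y * (n * t) := by group
          _ = n⁻¹ * (y * t) * n := by rw [hnt]; group
          _ = n⁻¹ * t * y * n := by rw [hyt]; group
          _ = t * (n⁻¹ * y * n) := by
            rw [show n⁻¹ * t = t * n⁻¹ by rw [inv_mul_eq_iff_eq_mul, ← mul_assoc, hnt, mul_inv_cancel_right]]
            group
    have hN := mem_normalizer_iff.1 (h.R_jt i hy')
    constructor
    · rintro ⟨r, hr, rfl⟩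
      exact ⟨_, (hN r).1 hr, by simp only [MulEquiv.coe_toMonoidHom, MulAut.conj_apply]; group⟩
    · rintro ⟨r, hr, hrw⟩
      simp only [MulEquiv.coe_toMonoidHom, MulAut.conj_apply] at hrw
      refine ⟨n⁻¹ * w * n, (hN _).2 ?_, by simp only [MulEquiv.coe_toMonoidHom, MulAut.conj_apply]; group⟩
      have : n⁻¹ * y * n * (n⁻¹ * w * n) * (n⁻¹ * y * n)⁻¹ = r := by
        calc _ = n⁻¹ * (y * w * y⁻¹) * n := by group
          _ = r := by rw [← hrw]; group
      exact this.symm ▸ hr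

theorem Loc.conj_mem_kk_of {c : G} (hc : ∀ i, ∀ r ∈ R i, c * r * c⁻¹ ∈ kk R) :
    c ∈ normalizer (kk R : Set G) := by
  have hle : (kk R).map (MulAut.conj c).toMonoidHom ≤ kk R := by
    rw [kk, Subgroup.map_iSup]
    refine iSup_le fun i => ?_
    rintro _ ⟨r, hr, rfl⟩
    exact hc i r hr
  have heq := eq_of_le_of_card_ge hle (le_of_eq (card_map_of_injective (MulAut.conj c).injective).symm)
  rw [mem_normalizer_iff]
  intro w
  constructor
  · exact fun hw => heq ▸ ⟨w, hw, rfl⟩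
  · intro hw
    rw [← heq] at hw
    obtain ⟨v, hv, hvw⟩ := hw
    simp only [MulEquiv.coe_toMonoidHom, MulAut.conj_apply, mul_left_inj, mul_right_inj] at hvw
    exact hvw ▸ hv

/-- The normaliser of the frame in the centraliser of `t` normalises the product. -/
theorem Loc.frame_local : normalizer (Φ.J : Set G) ⊓ ct t ≤ ll t R := by
  rintro n ⟨hn, hnt⟩
  refine ⟨hnt, h.conj_mem_kk_of fun i r hr => ?_⟩
  have hnt' := mem_centralizer_singleton_iff.1 hnt
  obtain ⟨m, hm⟩ := h.perm n hn hnt' i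
  exact h.R_kk m (h.map_R hn hnt' hm ▸ ⟨r, hr, rfl⟩)

theorem Loc.R_local (i : Fin 4) : R i ≤ ll t R :=
  fun _ hr => ⟨h.kk_le (h.R_kk i hr), le_normalizer (h.R_kk i hr)⟩

theorem Loc.root_not_pt {i m k l : Fin 4} (hmi : m ≠ i) (hkl : k ≠ l) (hmk : m ≠ k) (hml : m ≠ l)
    (hmem : root Φ k l ∈ zpowers (pt Φ i)) : False := by
  obtain ⟨s, hs⟩ := mem_zpowers_iff.1 hmem
  -- some element other than `1` and `t` would be fixed by a point it does not lie on
  have hbad : ∀ a b : Fin 4, a ≠ b → (∀ r ∈ R a, Commute (pt Φ b) r) → False := by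
    intro a b hab hall
    obtain ⟨p, hp, q, hq, hpq⟩ := h.nonab a
    rcases h.free a b hab p hp (hall p hp) with rfl | rfl
    · exact hpq (by rw [one_mul, mul_one])
    · exact hpq ((h.cover a).central q hq).eq.symm
  have hx3 := J_cube (pt_mem Φ i)
  have e : pt Φ i ^ (3 : ℤ) = 1 := by
    rw [show (3 : ℤ) = 1 + 1 + 1 from rfl, zpow_add, zpow_add, zpow_one, hx3]
  obtain ⟨q, hq⟩ : ∃ q : ℤ, s = 3 * q + s % 3 := ⟨s / 3, by omega⟩
  rw [hq, zpow_add, zpow_mul, e, one_zpow, one_mul] at hs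
  rcases (show s % 3 = 0 ∨ s % 3 = 1 ∨ s % 3 = 2 by omega) with e3 | e3 | e3 <;> rw [e3] at hs
  · rw [zpow_zero, root_eq] at hs
    have hkl' : pt Φ k = pt Φ l := mul_inv_eq_one.1 hs.symm
    exact hbad l k hkl.symm fun r hr => hkl' ▸ (mem_centralizer_singleton_iff.1 (h.le l hr).2).symm
  · rw [zpow_one] at hs
    exact hbad m i hmi fun r hr => hs ▸ h.root_comm m k l hmk hml r hr
  · refine hbad m i hmi fun r hr => ?_
    have h2 : Commute (root Φ k l) r := h.root_comm m k l hmk hml r hr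
    have : pt Φ i = (root Φ k l)⁻¹ := by
      rw [← hs, ← mul_left_inj (pt Φ i ^ (2 : ℤ)), inv_mul_cancel, ← e]
      group
    exact this ▸ h2.inv_left

/-- The quaternion group of the other block normalises the product. -/
theorem Loc.P_local (i : Fin 4) : P i ≤ ll t R := by
  intro c hc
  obtain ⟨⟨⟨hct, hci⟩, hcR⟩, hcB⟩ := h.P_le i hc
  refine ⟨hct, h.conj_mem_kk_of fun m r hr => ?_⟩
  have hcRi : ∀ q ∈ R i, c * q * c⁻¹ = q := fun q hq => by
    rw [← mem_centralizer_iff.1 hcR q hq, mul_inv_cancel_right]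
  rcases eq_or_ne m i with rfl | hmi
  · rw [hcRi r hr]; exact h.R_kk _ hr
  obtain ⟨k, l, hik, hil, hkl, hmk, hml⟩ := four_points i m hmi
  set a := root Φ k l with ha
  set e := c * a * c⁻¹ with he
  have heB : e ∈ B i := (mem_normalizer_iff.1 hcB a).1 (h.root_B i k l hik hil)
  obtain ⟨⟨⟨het, -⟩, heR⟩, heJ⟩ := h.B_le i heB
  have hctt : c * t * c⁻¹ = t := by rw [mem_centralizer_singleton_iff.1 hct, mul_inv_cancel_right]
  rcases h.B_cases i e heB with h1 | ⟨k', l', hik', hil', hkl', h2⟩ | ⟨σ, hσi, hσ1, hσ3, hσ⟩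
  · exfalso
    have hae : a = e := by
      obtain ⟨s, hs⟩ := mem_zpowers_iff.1 h1
      have hcp : Commute c (pt Φ i ^ s) :=
        (show Commute c (pt Φ i) from mem_centralizer_singleton_iff.1 hci).zpow_right s
      rw [hs] at hcp
      calc a = c⁻¹ * e * c := by rw [he]; group
        _ = c⁻¹ * (c * e) := by rw [mul_assoc, hcp.eq]
        _ = e := by group
    exact h.root_not_pt hmi hkl hmk hml (show a ∈ _ by rw [hae]; exact h1)
  · obtain ⟨m', him', hm'k, hm'l⟩ := fourth_point i k' l' hik' hil' hkl'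
    refine h.R_kk m' (h.root_two i m' k' l' him' hkl' hik' hil' hm'k hm'l
      ((R m).map (MulAut.conj c).toMonoidHom) ?_ ?_ ⟨r, hr, rfl⟩)
    · rintro _ ⟨q, hq, rfl⟩
      show c * q * c⁻¹ ∈ _
      refine ⟨⟨mem_centralizer_singleton_iff.2 ?_, mem_centralizer_singleton_iff.2 ?_⟩, mem_centralizer_iff.2 ?_⟩
      · conv_lhs => rw [← hctt]
        conv_rhs => rw [← hctt]
        rw [conj_mul, conj_mul, ((h.cover m).central q hq).eq]
      · rw [← h2, he, conj_mul, conj_mul, (h.root_comm m k l hmk hml q hq).eq]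
      · intro p hp
        rw [← hcRi p hp, conj_mul, conj_mul, (h.comm hmi q hq p hp).eq]
    · exact IsPGroup.of_card (n := 3) (by rw [card_map_of_injective (MulAut.conj c).injective, h.card]; rfl)
  · obtain ⟨hs1, hs2, hs3, hs4, hs5⟩ := perm_three σ i m hσi hσ1 hσ3 hmi
    have het' := mem_centralizer_singleton_iff.1 het
    have hmap : ∀ b, (R b).map (MulAut.conj e).toMonoidHom = R (σ b) := fun b =>
      h.map_R heJ het' (Or.inl (hσ b))
    have hm1 : ∀ q ∈ R m, e * q * e⁻¹ ∈ R (σ m) := fun q hq => hmap m ▸ ⟨q, hq, rfl⟩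
    have hm2 : ∀ q ∈ R m, e * (e * q * e⁻¹) * e⁻¹ ∈ R (σ (σ m)) := fun q hq =>
      hmap (σ m) ▸ ⟨_, hm1 q hq, rfl⟩
    have he3 : e * e * e = 1 := by
      rw [he, conj_mul, conj_mul, J_cube (root_mem Φ k l), mul_one, mul_inv_cancel]
    let d : ↥(R m) →* G :=
      { toFun := fun q => q.1 * (e * q.1 * e⁻¹) * (e * (e * q.1 * e⁻¹) * e⁻¹)
        map_one' := by simp
        map_mul' := fun p q => by
          have c1 : Commute (e * p.1 * e⁻¹) q.1 := h.comm hs1 _ (hm1 _ p.2) _ q.2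
          have c2 : Commute (e * (e * p.1 * e⁻¹) * e⁻¹) (q.1 * (e * q.1 * e⁻¹)) :=
            (h.comm hs2 _ (hm2 _ p.2) _ q.2).mul_right (h.comm hs3 _ (hm2 _ p.2) _ (hm1 _ q.2))
          rw [c2.mul_mul_mul_comm, c1.mul_mul_mul_comm, conj_mul, conj_mul, conj_mul, Subgroup.coe_mul] }
    have hde : ∀ q, Commute e (d q) := fun q => by
      refine mul_inv_eq_iff_eq_mul.1 ?_
      show e * (q.1 * (e * q.1 * e⁻¹) * (e * (e * q.1 * e⁻¹) * e⁻¹)) * e⁻¹ = _
      rw [← conj_mul, ← conj_mul,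
        show e * (e * (e * q.1 * e⁻¹) * e⁻¹) * e⁻¹ = e * e * e * q.1 * (e * e * e)⁻¹ by group, he3]
      have c1 : Commute (e * q.1 * e⁻¹ * (e * (e * q.1 * e⁻¹) * e⁻¹)) q.1 :=
        (h.comm hs1 _ (hm1 _ q.2) _ q.2).mul_left (h.comm hs2 _ (hm2 _ q.2) _ q.2)
      rw [inv_one, mul_one, one_mul, c1.eq]
      exact (mul_assoc _ _ _).symm
    have hdinj : Function.Injective d := by
      rw [← MonoidHom.ker_eq_bot_iff, eq_bot_iff]
      intro q hq
      have hq1 : q.1 * (e * q.1 * e⁻¹ * (e * (e * q.1 * e⁻¹) * e⁻¹)) = 1 := by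
        rw [← mul_assoc]; exact hq
      have hqc : ∀ p ∈ R m, Commute q.1 p := fun p hp => by
        rw [eq_inv_of_mul_eq_one_left hq1]
        exact ((h.comm hs1 _ (hm1 _ q.2) _ hp).mul_left (h.comm hs2 _ (hm2 _ q.2) _ hp)).inv_left
      rcases (h.cover m).centre q.1 q.2 hqc with h0 | h0
      · exact mem_bot.2 (Subtype.ext h0)
      · exfalso
        have het2 : e * t * e⁻¹ = t := by rw [het', mul_inv_cancel_right]
        rw [h0, het2, het2, h.t2, mul_one] at hq1
        exact h.ot hq1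
    have hdK : d.range ≤ kk R := by
      rintro _ ⟨q, rfl⟩
      exact mul_mem (mul_mem (h.R_kk m q.2) (h.R_kk _ (hm1 _ q.2))) (h.R_kk _ (hm2 _ q.2))
    have hdR : ∀ q, ∀ p ∈ R i, Commute (d q) p := fun q p hp =>
      ((h.comm hmi _ q.2 p hp).mul_left (h.comm hs4 _ (hm1 _ q.2) p hp)).mul_left
        (h.comm hs5 _ (hm2 _ q.2) p hp)
    have hle : d.range.map (MulAut.conj c⁻¹).toMonoidHom ≤ R m := by
      refine h.root_two i m k l hmi.symm hkl hik hil hmk hml _ ?_ ?_
      · rintro _ ⟨_, ⟨q, rfl⟩, rfl⟩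
        simp only [MulEquiv.coe_toMonoidHom, MulAut.conj_apply, inv_inv]
        refine ⟨⟨mem_centralizer_singleton_iff.2 ?_, mem_centralizer_singleton_iff.2 ?_⟩, mem_centralizer_iff.2 ?_⟩
        · have h0 : c⁻¹ * t * c = t := by
            calc c⁻¹ * t * c = c⁻¹ * (c * t * c⁻¹) * c := by rw [hctt]
              _ = t := by group
          calc c⁻¹ * d q * c * t = c⁻¹ * d q * c * (c⁻¹ * t * c) := by rw [h0]
            _ = c⁻¹ * (d q * t) * c := by group
            _ = c⁻¹ * (t * d q) * c := by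
              rw [mem_centralizer_singleton_iff.1 (h.kk_le (hdK ⟨q, rfl⟩))]
            _ = c⁻¹ * t * c * (c⁻¹ * d q * c) := by group
            _ = t * (c⁻¹ * d q * c) := by rw [h0]
        · calc c⁻¹ * d q * c * a = c⁻¹ * (d q * e) * c := by rw [he]; group
            _ = c⁻¹ * (e * d q) * c := by rw [(hde q).eq]
            _ = a * (c⁻¹ * d q * c) := by rw [he]; group
        · intro p hp
          calc p * (c⁻¹ * d q * c) = c⁻¹ * (c * p * c⁻¹ * d q) * c := by group
            _ = c⁻¹ * (d q * (c * p * c⁻¹)) * c := by rw [hcRi p hp, ((hdR q p hp)).eq]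
            _ = c⁻¹ * d q * c * p := by group
      · exact ((IsPGroup.of_card (p := 2) (n := 3) (by rw [h.card]; rfl) : IsPGroup 2 ↥(R m)).of_surjective
          d.rangeRestrict d.rangeRestrict_surjective).map _
    have heq := eq_of_le_of_card_ge hle (by
      rw [card_map_of_injective (MulAut.conj c⁻¹).injective,
        ← Nat.card_congr (MonoidHom.ofInjective hdinj).toEquiv])
    obtain ⟨y, hy, hyr⟩ := heq.symm ▸ hr
    simp only [MulEquiv.coe_toMonoidHom, MulAut.conj_apply, inv_inv] at hyr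
    have : c * r * c⁻¹ = y := by rw [← hyr]; group
    rw [this]
    exact hdK hy

theorem Loc.pt_local (i : Fin 4) : ct t ⊓ centralizer ({pt Φ i} : Set G) ≤ ll t R :=
  (h.pt_gen i).trans (sup_le (sup_le (h.R_local i) (h.P_local i)) h.frame_local)

theorem Loc.root_local {i m k l : Fin 4} (him : i ≠ m) (hkl : k ≠ l) (hik : i ≠ k) (hil : i ≠ l)
    (hmk : m ≠ k) (hml : m ≠ l) : ct t ⊓ centralizer ({root Φ k l} : Set G) ≤ ll t R :=
  (h.root_gen i m k l him hkl hik hil hmk hml).trans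
    (sup_le (sup_le (h.R_local i) (h.R_local m)) h.frame_local)

theorem Loc.prod_local {i k : Fin 4} (hik : i ≠ k) :
    ct t ⊓ centralizer ({pt Φ i * pt Φ k} : Set G) ≤ ll t R :=
  fun _ hx => h.frame_local ⟨h.b_local i k hik hx, hx.1⟩

theorem Loc.jt_local : jt Φ t ≤ ll t R := fun _ hy => h.pt_local 0 (h.jt_le 0 hy)

/-- The product contains its centraliser. -/
theorem Loc.self : ct t ⊓ centralizer (kk R : Set G) ≤ kk R := by
  classical
  have : Fact (Nat.Prime 3) := ⟨Nat.prime_three⟩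
  set X := ct t ⊓ centralizer (kk R : Set G) with hX
  have hXR : ∀ x ∈ X, ∀ i, ∀ r ∈ R i, Commute x r := fun x hx i r hr =>
    (mem_centralizer_iff.1 hx.2 r (h.R_kk i hr)).symm
  have hnX : ∀ y ∈ ll t R, y ∈ normalizer (X : Set G) := by
    have key : ∀ y ∈ ll t R, ∀ x ∈ X, y * x * y⁻¹ ∈ X := by
      rintro y ⟨hyt, hyK⟩ x ⟨hxt, hxK⟩
      have hyt' : y ∈ ct t := hyt
      refine ⟨show y * x * y⁻¹ ∈ ct t from mul_mem (mul_mem hyt' hxt) (inv_mem hyt'),
        mem_centralizer_iff.2 fun w hw => ?_⟩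
      have hw' : y⁻¹ * w * y ∈ kk R := by
        have := (mem_normalizer_iff.1 (inv_mem hyK) w).1 hw
        rwa [inv_inv] at this
      calc w * (y * x * y⁻¹) = y * ((y⁻¹ * w * y) * x) * y⁻¹ := by group
        _ = y * (x * (y⁻¹ * w * y)) * y⁻¹ := by rw [mem_centralizer_iff.1 hxK _ hw']
        _ = y * x * y⁻¹ * w := by group
    intro y hy
    rw [mem_normalizer_iff]
    refine fun x => ⟨key y hy x, fun hx => ?_⟩
    have := key y⁻¹ (inv_mem hy) _ hx
    rwa [show y⁻¹ * (y * x * y⁻¹) * y⁻¹⁻¹ = x by group] at this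
  have hjX : jt Φ t ≤ normalizer (X : Set G) := fun y hy => hnX y (h.jt_local hy)
  -- no element of order three
  have h3 : ¬ 3 ∣ Nat.card ↥X := by
    intro h3
    set H := X ⊔ jt Φ t with hH
    obtain ⟨S, hS⟩ := (jt_three Φ t).of_equiv (subgroupOfEquivOfLe (le_sup_right : jt Φ t ≤ H)).symm
      |>.exists_le_sylow
    have hXn : (X.subgroupOf H).Normal := normal_subgroupOf_of_le_normalizer
      (sup_le le_normalizer hjX)
    have h3' : 3 ∣ Nat.card ↥(↑S ⊓ X.subgroupOf H : Subgroup ↥H) := by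
      set X' := X.subgroupOf H
      have hX' : 3 ∣ Nat.card ↥X' := by
        rwa [Nat.card_congr (subgroupOfEquivOfLe (le_sup_left : X ≤ H)).toEquiv]
      obtain ⟨⟨y, hy⟩, hyo⟩ := exists_prime_orderOf_dvd_card' 3 hX'
      rw [orderOf_mk] at hyo
      obtain ⟨T, hT⟩ := (IsPGroup.of_card (p := 3) (n := 1) (by
        rw [Nat.card_zpowers, hyo]; rfl) : IsPGroup 3 ↥(zpowers y)).exists_le_sylow
      obtain ⟨g, hg⟩ := MulAction.exists_smul_eq ↥H T S
      have h1 : g * y * g⁻¹ ∈ (↑S : Subgroup ↥H) ⊓ X' := by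
        refine ⟨?_, hXn.conj_mem y hy g⟩
        rw [← hg]
        exact ⟨y, hT (mem_zpowers y), rfl⟩
      have h2 : orderOf (⟨_, h1⟩ : ↥((↑S : Subgroup ↥H) ⊓ X')) = 3 := by
        rw [orderOf_mk, ← hyo]; exact (MulAut.conj g).orderOf_eq y
      exact h2.symm.dvd.trans (orderOf_dvd_natCard _)
    set Y : Subgroup ↥H := ↑S ⊓ X.subgroupOf H
    let act : MulAction ↥(S : Subgroup ↥H) ↥Y :=
      { smul := fun s y => ⟨s.1 * y.1 * s.1⁻¹, Subgroup.mul_mem _ (Subgroup.mul_mem _ s.2 (mem_inf.1 y.2).1) (Subgroup.inv_mem _ s.2),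
          hXn.conj_mem _ (mem_inf.1 y.2).2 _⟩
        one_smul := fun y => Subtype.ext (by show (1 : ↥H) * y.1 * 1⁻¹ = y.1; simp)
        mul_smul := fun a b y => Subtype.ext (by
          show (a.1 * b.1) * y.1 * (a.1 * b.1)⁻¹ = a.1 * (b.1 * y.1 * b.1⁻¹) * a.1⁻¹
          group) }
    obtain ⟨y, hy, hy1⟩ := S.2.exists_fixed_point_of_prime_dvd_card_of_fixed_point
      (α := ↥Y) h3' (a := 1) (fun s => Subtype.ext (by
        show s.1 * (1 : ↥H) * s.1⁻¹ = 1; simp))
    have hcomm : ∀ w ∈ jt Φ t, Commute (y.1 : G) w := fun w hw => by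
      have hwS : (⟨w, (le_sup_right : jt Φ t ≤ H) hw⟩ : ↥H) ∈ (↑S : Subgroup ↥H) := hS hw
      have := congrArg (fun u : ↥Y => (u.1 : G)) (hy ⟨_, hwS⟩)
      exact (mul_inv_eq_iff_eq_mul.1 this).symm
    rcases h.scalar (y.1 : G) y.2.2.1 hcomm (hXR _ y.2.2) with e | e
    · exact hy1 (Subtype.ext (Subtype.ext e.symm))
    · obtain ⟨n, hn⟩ := S.2 ⟨y.1, y.2.1⟩
      have hn' : (y.1 : G) ^ 3 ^ n = 1 := congrArg (fun u : ↥(S : Subgroup ↥H) => ((u : ↥H) : G)) hn
      have hodd : Odd (3 ^ n) := Odd.pow (by decide)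
      obtain ⟨q, hq⟩ := hodd
      rw [e, hq, pow_succ, pow_mul, pow_two, h.t2, one_pow, one_mul] at hn'
      exact h.ot hn'
  have hcop : ∀ W : Subgroup G, W ≤ X → (Nat.card ↥W).Coprime 3 := fun W hW =>
    ((Nat.prime_three.coprime_iff_not_dvd).2 fun hd => h3 (hd.trans (card_dvd_of_le hW))).symm
  -- the centralisers of points and of products of two points
  have hpt : ∀ i, ∀ x ∈ X, Commute x (pt Φ i) → x = 1 ∨ x = t := by
    intro i x hx hxp
    have hW : X ⊓ centralizer ({pt Φ i} : Set G) ≤ R i :=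
      h.max i _ (inf_le_inf inf_le_left le_rfl) (hcop _ inf_le_left) fun y hy => by
        rw [mem_normalizer_iff]
        intro w
        have hyc : y * pt Φ i = pt Φ i * y := (frame_commute hy.1 (pt_mem Φ i)).eq
        refine and_congr (mem_normalizer_iff.1 (hjX hy) w) ?_
        show _ ∈ centralizer _ ↔ _ ∈ centralizer _
        rw [mem_centralizer_singleton_iff, mem_centralizer_singleton_iff]
        have : y * pt Φ i * y⁻¹ = pt Φ i := by rw [hyc, mul_inv_cancel_right]
        constructor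
        · intro hw; conv_lhs => rw [← this]
          conv_rhs => rw [← this]
          rw [conj_mul, conj_mul, hw]
        · intro hw
          conv at hw => lhs; rw [← this]
          conv at hw => rhs; rw [← this]
          rw [conj_mul, conj_mul, mul_left_inj, mul_right_inj] at hw
          exact hw
    exact (h.cover i).centre x (hW ⟨hx, mem_centralizer_singleton_iff.2 hxp.eq⟩) (hXR x hx i)
  have hprod : ∀ i k, i ≠ k → ∀ x ∈ X, Commute x (pt Φ i * pt Φ k) → x = 1 ∨ x = t := by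
    intro i k hik x hx hxb
    have hxJ := h.b_local i k hik ⟨hx.1, mem_centralizer_singleton_iff.2 hxb.eq⟩
    refine h.scalar x hx.1 (fun y hy => ?_) (hXR x hx)
    have hJ : x * y * x⁻¹ * y⁻¹ ∈ Φ.J := mul_mem ((mem_normalizer_iff.1 hxJ y).1 hy.1) (inv_mem hy.1)
    have hX' : x * y * x⁻¹ * y⁻¹ ∈ X := by
      rw [mul_assoc x y x⁻¹, mul_assoc x]
      exact mul_mem hx ((mem_normalizer_iff.1 (hjX hy) _).1 (inv_mem hx))
    have hone : x * y * x⁻¹ * y⁻¹ = 1 := by
      by_contra hne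
      exact h3 ((orderOf_eq_prime (p := 3) (by rw [pow_succ, pow_two, J_cube hJ]) hne).symm.dvd.trans
        (orderOf_dvd_natCard (⟨_, hX'⟩ : ↥X) |> fun hd => by rwa [orderOf_mk] at hd))
    exact mul_inv_eq_iff_eq_mul.1 (mul_inv_eq_one.1 hone)
  intro x hx
  have hgen : ∀ x ∈ X, (x = 1 ∨ x = t) := by
    have hA : ∀ i k : Fin 4, i ≠ k → ∀ W : Subgroup G, W ≤ X → jt Φ t ≤ normalizer (W : Set G) →
        (∀ w ∈ W, Commute w (root Φ i k) → w = 1 ∨ w = t) → ∀ w ∈ W, w = 1 ∨ w = t := by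
      intro i k hik W hWX hWn hroot
      set A := closure ({pt Φ i, pt Φ k} : Set G) with hA
      have hAJ : A ≤ jt Φ t := by
        rw [hA, closure_le]
        rintro _ (rfl | rfl)
        exacts [h.pt_jt i, h.pt_jt k]
      have hAc : IsMulCommutative ↥A :=
        ⟨⟨fun a b => Subtype.ext (frame_commute (hAJ a.2).1 (hAJ b.2).1).eq⟩⟩
      have hform : ∀ a ∈ A, ∃ p q : Fin 3, a = pt Φ i ^ p.val * pt Φ k ^ q.val := by
        intro a ha
        have hp3 : ∀ n : ℕ, pt Φ i ^ n = pt Φ i ^ (n % 3) := fun n => by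
          conv_lhs => rw [← Nat.mod_add_div n 3]
          rw [pow_add, pow_mul, pow_succ, pow_two, J_cube (pt_mem Φ i), one_pow, mul_one]
        have hq3 : ∀ n : ℕ, pt Φ k ^ n = pt Φ k ^ (n % 3) := fun n => by
          conv_lhs => rw [← Nat.mod_add_div n 3]
          rw [pow_add, pow_mul, pow_succ, pow_two, J_cube (pt_mem Φ k), one_pow, mul_one]
        have hc : ∀ n n' : ℕ, Commute (pt Φ k ^ n) (pt Φ i ^ n') := fun n n' =>
          (frame_commute (pt_mem Φ k) (pt_mem Φ i)).pow_pow n n'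
        induction ha using closure_induction with
        | mem a ha =>
          rcases ha with rfl | rfl
          · exact ⟨1, 0, by simp⟩
          · exact ⟨0, 1, by simp⟩
        | one => exact ⟨0, 0, by simp⟩
        | mul a b _ _ iha ihb =>
          obtain ⟨p, q, rfl⟩ := iha
          obtain ⟨p', q', rfl⟩ := ihb
          exact ⟨⟨(p.val + p'.val) % 3, Nat.mod_lt _ (by norm_num)⟩, ⟨(q.val + q'.val) % 3, Nat.mod_lt _ (by norm_num)⟩,
            by rw [(hc q p').mul_mul_mul_comm, ← pow_add, ← pow_add, hp3, hq3]⟩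
        | inv a _ iha =>
          obtain ⟨p, q, rfl⟩ := iha
          refine ⟨⟨(2 * p.val) % 3, Nat.mod_lt _ (by norm_num)⟩, ⟨(2 * q.val) % 3, Nat.mod_lt _ (by norm_num)⟩, ?_⟩
          refine inv_eq_of_mul_eq_one_right ?_
          rw [(hc _ _).mul_mul_mul_comm, ← hp3, ← hq3, ← pow_add, ← pow_add,
            show p.val + 2 * p.val = 3 * p.val by ring, show q.val + 2 * q.val = 3 * q.val by ring,
            pow_mul, pow_mul, pow_succ, pow_two, J_cube (pt_mem Φ i), pow_succ, pow_two, J_cube (pt_mem Φ k),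
            one_pow, one_pow, one_mul]
      have hncyc : ¬ IsCyclic ↥A := by
        intro hcy
        obtain ⟨g, hg⟩ := hcy.exists_generator
        have hk1 : pt Φ k ≠ 1 := fun e => by
          obtain ⟨p, hp, q, hq, hpq⟩ := h.nonab i
          rcases h.free i k hik p hp (by rw [e]; exact Commute.one_left p) with rfl | rfl
          · exact hpq (by rw [one_mul, mul_one])
          · exact hpq ((h.cover i).central q hq).eq.symm
        have hle : zpowers (⟨pt Φ k, subset_closure (Or.inr rfl)⟩ : ↥A) = ⊤ := by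
          refine eq_top_of_le_card _ ?_
          rw [Nat.card_zpowers, ← orderOf_eq_card_of_forall_mem_zpowers hg]
          refine le_of_le_of_eq ?_ ((orderOf_eq_prime (p := 3) (by
            rw [pow_succ, pow_two, J_cube (pt_mem Φ k)]) hk1).symm.trans
            (Subgroup.orderOf_coe (⟨pt Φ k, subset_closure (Or.inr rfl)⟩ : ↥A)))
          exact Nat.le_of_dvd (by norm_num) (orderOf_dvd_of_pow_eq_one (Subtype.ext (by
            show (g : G) ^ 3 = 1
            rw [pow_succ, pow_two, J_cube (hAJ g.2).1])))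
        obtain ⟨s, hs⟩ := mem_zpowers_iff.1 (hle.symm ▸ mem_top (⟨pt Φ i, subset_closure (Or.inl rfl)⟩ : ↥A))
        have hs' : pt Φ k ^ s = pt Φ i := congrArg Subtype.val hs
        obtain ⟨p, hp, q, hq, hpq⟩ := h.nonab k
        have hall : ∀ r ∈ R k, Commute (pt Φ i) r := fun r hr =>
          hs' ▸ ((show Commute (pt Φ k) r from (mem_centralizer_singleton_iff.1 (h.le k hr).2).symm).zpow_left s)
        rcases h.free k i hik.symm p hp (hall p hp) with rfl | rfl
        · exact hpq (by rw [one_mul, mul_one])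
        · exact hpq ((h.cover k).central q hq).eq.symm
      have hle : W ≤ zpowers t := by
        rw [← Coprime.iSup_centralizer_eq (A := A) (K := W) hncyc (hAJ.trans hWn) (by
          obtain ⟨n, hn⟩ := IsPGroup.iff_card.1 ((jt_three Φ t).to_le hAJ)
          rw [hn]; exact (hcop W hWX).symm.pow_left n)]
        refine iSup₂_le fun a ha => ?_
        rintro w ⟨hw, hwa⟩
        have hwa' : Commute w a := mem_centralizer_singleton_iff.1 hwa
        obtain ⟨p, q, hpq⟩ := hform a ha.1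
        have hii := J_cube (pt_mem Φ i)
        have hkk := J_cube (pt_mem Φ k)
        have hik' := (frame_commute (pt_mem Φ i) (pt_mem Φ k))
        have inv2 : ∀ y : G, y * y * y = 1 → y = (y ^ 2)⁻¹ := fun y hy =>
          eq_inv_of_mul_eq_one_left (by rw [pow_two, ← mul_assoc, hy])
        suffices hw1 : w = 1 ∨ w = t by
          rcases hw1 with rfl | rfl
          exacts [one_mem _, mem_zpowers _]
        fin_cases p <;> fin_cases q <;> simp only [pow_zero, pow_one, one_mul, mul_one] at hpq <;> subst hpq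
        · exact absurd rfl ha.2
        · exact hpt k w (hWX hw) hwa'
        · exact hpt k w (hWX hw) ((inv2 _ hkk) ▸ hwa'.inv_right)
        · exact hpt i w (hWX hw) hwa'
        · exact hprod i k hik w (hWX hw) hwa'
        · refine hroot w hw ?_
          rw [root_eq, show (pt Φ k)⁻¹ = pt Φ k ^ 2 from inv_eq_of_mul_eq_one_right (by
            rw [pow_two, ← mul_assoc, hkk])]
          exact hwa'
        · exact hpt i w (hWX hw) ((inv2 _ hii) ▸ hwa'.inv_right)
        · refine hroot w hw ?_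
          rw [root_eq, show pt Φ i * (pt Φ k)⁻¹ = (pt Φ i ^ 2 * pt Φ k)⁻¹ by
            rw [mul_inv_rev, ← inv2 _ hii]
            exact hik'.inv_right.eq]
          exact hwa'.inv_right
        · refine hprod i k hik w (hWX hw) ?_
          rw [show pt Φ i * pt Φ k = (pt Φ i ^ 2 * pt Φ k ^ 2)⁻¹ by
            rw [mul_inv_rev, ← inv2 _ hii, ← inv2 _ hkk]
            exact hik'.eq]
          exact hwa'.inv_right
      intro w hw
      obtain ⟨s, hs⟩ := mem_zpowers_iff.1 (hle hw)
      rcases Int.even_or_odd s with ⟨n, rfl⟩ | ⟨n, rfl⟩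
      · left; rw [← hs, ← two_mul, zpow_mul, zpow_two, h.t2, one_zpow]
      · right; rw [← hs, zpow_add_one, zpow_mul, zpow_two, h.t2, one_zpow, one_mul]
    have hnormC : ∀ W : Subgroup G, jt Φ t ≤ normalizer (W : Set G) → ∀ a ∈ Φ.J,
        jt Φ t ≤ normalizer ((W ⊓ centralizer ({a} : Set G) : Subgroup G) : Set G) := by
      intro W hW a haJ y hy
      rw [mem_normalizer_iff]
      intro w
      refine and_congr (mem_normalizer_iff.1 (hW hy) w) ?_
      show _ ∈ centralizer _ ↔ _ ∈ centralizer _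
      rw [mem_centralizer_singleton_iff, mem_centralizer_singleton_iff]
      have hya : y * a = a * y := (frame_commute hy.1 haJ).eq
      constructor <;> intro hw
      · calc y * w * y⁻¹ * a = y * w * (y⁻¹ * a * y) * y⁻¹ := by group
          _ = y * (w * a) * y⁻¹ := by rw [mul_assoc y⁻¹, ← hya, inv_mul_cancel_left]; group
          _ = y * a * w * y⁻¹ := by rw [hw]; group
          _ = a * (y * w * y⁻¹) := by rw [hya]; group
      · calc w * a = y⁻¹ * (y * w * y⁻¹) * (y * a) := by group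
          _ = y⁻¹ * (y * w * y⁻¹ * a) * y := by rw [hya]; group
          _ = y⁻¹ * a * y * w := by rw [hw]; group
          _ = a * w := by rw [mul_assoc y⁻¹, ← hya, inv_mul_cancel_left]
    refine hA 0 1 (by decide) X le_rfl hjX fun w hw hwr => ?_
    refine hA 2 3 (by decide) (X ⊓ centralizer ({root Φ 0 1} : Set G)) inf_le_left
      (hnormC X hjX _ (root_mem Φ 0 1)) (fun v hv hvr => ?_) w ⟨hw, mem_centralizer_singleton_iff.2 hwr.eq⟩
    -- the two roots generate a product of two points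
    refine hprod 0 2 (by decide) v hv.1 ?_
    have h01 : Commute v (root Φ 0 1) := mem_centralizer_singleton_iff.1 hv.2
    have he : pt Φ 0 * pt Φ 2 = (root Φ 0 1 * root Φ 2 3)⁻¹ := by
      rw [root_eq, root_eq]
      let _ : CommGroup ↥Φ.J :=
        { (inferInstance : Group ↥Φ.J) with mul_comm := fun a b => Subtype.ext (frame_commute a.2 b.2).eq }
      let e : Fin 4 → ↥Φ.J := fun a => ⟨pt Φ a, pt_mem Φ a⟩
      have hsum : e 0 * e 1 * e 2 * e 3 = 1 := Subtype.ext (pt_sum Φ)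
      have hc0 : e 0 * e 0 * e 0 = 1 := Subtype.ext (J_cube (pt_mem Φ 0))
      have hc2 : e 2 * e 2 * e 2 = 1 := Subtype.ext (J_cube (pt_mem Φ 2))
      have h1 : e 0 * e 2 = (e 0 * (e 1)⁻¹ * (e 2 * (e 3)⁻¹))⁻¹ := by
        rw [eq_inv_iff_mul_eq_one]
        calc e 0 * e 2 * (e 0 * (e 1)⁻¹ * (e 2 * (e 3)⁻¹))
            = (e 0 * e 0 * e 0) * (e 2 * e 2 * e 2) * ((e 1)⁻¹ * (e 3)⁻¹ * (e 0)⁻¹ * (e 2)⁻¹) := by
              rw [eq_comm]
              calc _ = e 0 * e 2 * (e 0 * (e 1)⁻¹ * (e 2 * (e 3)⁻¹)) * ((e 0 * (e 0)⁻¹) * (e 2 * (e 2)⁻¹)) := by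
                    ac_rfl
                _ = _ := by rw [mul_inv_cancel, mul_inv_cancel, one_mul, mul_one]
          _ = (e 0 * e 1 * e 2 * e 3)⁻¹ := by
            rw [hc0, hc2, one_mul, one_mul]; simp only [mul_inv]; ac_rfl
          _ = 1 := by rw [hsum, inv_one]
      exact congrArg Subtype.val h1
    rw [he]
    exact (h01.mul_right hvr).inv_right
  rcases hgen x hx with rfl | rfl
  exacts [one_mem _, h.four_kk.1.mem]

end Cfsg.Agent.U62Three.K
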